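import Cfsg.Agent.H504.TwoRows
import Cfsg.Agent.H701.ZerosAlt
import Cfsg.Agent.StandardComponent.AltAut

/-!
# The alternating row of S4897

* `two_of_ti_col2` : a sharper form of `two_of_ti_col`;
* `rowT_alt` : `RowT (alternatingGroup (Fin n))` for `n ≥ 7`.
-/

set_option autoImplicit false
set_option linter.unusedSectionVars false

open scoped ComplexConjugate

namespace Cfsg.Agent.H686.TZ

open Cfsg Equiv Equiv.Perm Cfsg.Agent.Characters.Core Cfsg.Agent.H504.Zeros Cfsg.Agent.H504.ZeroTI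
open Cfsg.Agent.H504.TwoZ

universe u v

section Col

variable {G : Type u} [Group G]

/-- **One CC-subgroup** with at least two classes and one column `x` outside: `e + m + f ≤ k ≤ #classes`
(two of the `f` characters not vanishing at `x` do not vanish on the CC-subgroup). -/
theorem two_of_ti_col2 [Finite G] {A : Subgroup G} (hA : CC A) {e m k f : ℕ} (he : eIdx A = e)
    (hm : 2 ≤ m) (hem : Nat.card A = e * m + 1) (x : G)
    (hx : ∀ a ∈ A, a ≠ 1 → ¬ IsConj x a) (hf : nv x ≤ f) (hk : k ≤ Nat.card (ConjClasses G))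
    (h : e + m + f ≤ k) : Two G := by
  classical
  have := finite_irr (G := G)
  have := Fintype.ofFinite (IrrCharacter G)
  have := Fintype.ofFinite G
  obtain ⟨s, hs, hsm, hsA⟩ := exists_reps hA (he ▸ hem)
  have h1 := le_ncard_compl hA he (by omega) hem hk
  have h3 : ({χ : IrrCharacter G | (χ : G → ℂ) x ≠ 0}).ncard ≤ f := hf
  -- two characters in `NV A` do not vanish at `x`
  obtain ⟨a, haA, ha1⟩ : ∃ a ∈ A, a ≠ 1 := by
    obtain ⟨a, ha⟩ := Finset.card_pos.1 (show 0 < s.card by omega)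
    exact ⟨a, (hsA a ha).1, (hsA a ha).2⟩
  set χ₀ : IrrCharacter G := ⟨1, isIrr_one⟩ with hχ₀
  have horth : ∑ χ : IrrCharacter G, (χ : G → ℂ) x * conj ((χ : G → ℂ) a) = 0 := by
    have h4 := Cfsg.Agent.S0145.sum_irr_mul_conj x a
    rw [if_neg (hx a haA ha1)] at h4
    exact h4
  obtain ⟨χ₁, hne, hx1, hA1⟩ : ∃ χ₁ : IrrCharacter G, χ₁ ≠ χ₀ ∧ (χ₁ : G → ℂ) x ≠ 0 ∧ χ₁ ∈ NV A := by
    by_contra hcon
    push Not at hcon
    rw [Finset.sum_eq_single χ₀] at horth
    · rw [hχ₀] at horth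
      simp at horth
    · intro χ _ hχ
      by_cases h5 : (χ : G → ℂ) x = 0
      · rw [h5, zero_mul]
      · have h6 := hcon χ hχ h5
        rw [apply_eq_zero_of_compl h6 haA ha1, map_zero, mul_zero]
    · intro h'
      exact absurd (Finset.mem_univ _) h'
  have h0A : χ₀ ∈ NV A := by
    by_contra h5
    have h6 := apply_eq_zero_of_compl h5 haA ha1
    exact one_ne_zero h6
  have h4 : ({χ : IrrCharacter G | (χ : G → ℂ) x ≠ 0} ∩ (NV A)ᶜ).ncard + 2 ≤ f := by
    have h5 : ({χ : IrrCharacter G | (χ : G → ℂ) x ≠ 0} ∩ (NV A)ᶜ) ∪ {χ₀, χ₁} ⊆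
        {χ : IrrCharacter G | (χ : G → ℂ) x ≠ 0} := by
      rintro χ (h6 | h6)
      · exact h6.1
      · rcases h6 with rfl | h6
        · exact one_ne_zero
        · rw [Set.mem_singleton_iff] at h6
          rw [h6]
          exact hx1
    have h6 := Set.ncard_le_ncard h5 (Set.toFinite _)
    rw [Set.ncard_union_eq, Set.ncard_pair hne.symm] at h6
    · omega
    · rw [Set.disjoint_left]
      rintro χ h7 h8
      rcases h8 with rfl | h8
      · exact h7.2 h0A
      · rw [Set.mem_singleton_iff] at h8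
        rw [h8] at h7
        exact h7.2 hA1
  have h2 : 1 < (((NV A)ᶜ : Set (IrrCharacter G)) \ {χ | (χ : G → ℂ) x ≠ 0}).ncard := by
    have h5 : ((NV A)ᶜ : Set (IrrCharacter G)) \ {χ | (χ : G → ℂ) x ≠ 0} =
        ((NV A)ᶜ : Set (IrrCharacter G)) \ ({χ : IrrCharacter G | (χ : G → ℂ) x ≠ 0} ∩ (NV A)ᶜ) := by
      ext χ
      simp only [Set.mem_sdiff, Set.mem_compl_iff, Set.mem_inter_iff, not_and]
      tauto
    rw [h5]
    have h6 := Set.le_ncard_sdiff ({χ : IrrCharacter G | (χ : G → ℂ) x ≠ 0} ∩ (NV A)ᶜ) ((NV A)ᶜ) (Set.toFinite _)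
    omega
  rw [Set.one_lt_ncard (Set.toFinite _)] at h2
  obtain ⟨a, ha, b, hb, hab⟩ := h2
  have hxs : x ∉ s := fun h => hx x (hsA x h).1 (hsA x h).2 (IsConj.refl x)
  have hns : NonConj (insert x s) := by
    intro g hg h hh hc
    rcases Finset.mem_insert.1 hg with h1 | hg' <;> rcases Finset.mem_insert.1 hh with h2 | hh'
    · rw [h1, h2]
    · rw [h1] at hc
      exact absurd hc (hx h (hsA h hh').1 (hsA h hh').2)
    · rw [h2] at hc
      exact absurd hc.symm (hx g (hsA g hg').1 (hsA g hg').2)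
    · exact hs g hg' h hh' hc
  have key : ∀ χ ∈ (((NV A)ᶜ : Set (IrrCharacter G)) \ {χ | (χ : G → ℂ) x ≠ 0}),
      ∀ g ∈ insert x s, (χ : G → ℂ) g = 0 := by
    intro χ hχ g hg
    rcases Finset.mem_insert.1 hg with rfl | hg
    · exact not_not.1 hχ.2
    · exact apply_eq_zero_of_compl hχ.1 (hsA g hg).1 (hsA g hg).2
  refine two_of_zeros hab (insert x s) (insert x s) hns hns (key a ha) (key b hb) ?_ ?_ <;>
    rw [Finset.card_insert_of_notMem hxs] <;> omega

/-- the same for a self-centralizing element of prime order `r` -/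
theorem two_of_prime_col2 [Finite G] {x : G} {r n e m k f : ℕ} (hr : r.Prime)
    (hx : orderOf x = r) (hc : Nat.card (Subgroup.centralizer ({x} : Set G)) = r) (hn : Nat.card G = r * n)
    (he : n % r = e) (hm : 2 ≤ m) (hem : r = e * m + 1) (y : G) (hy : orderOf y ≠ r) (hf : nv y ≤ f)
    (hk : k ≤ Nat.card (ConjClasses G)) (h : e + m + f ≤ k) : Two G := by
  have hA := cc_of_prime hr hx hc
  have cA : Nat.card (Subgroup.zpowers x) = r := by rw [Nat.card_zpowers, hx]
  have h1 := eIdx_eq_mod hA (by rw [cA]; exact hr.one_lt) (n := n) (by rw [hn, cA])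
  rw [cA, he] at h1
  refine two_of_ti_col2 hA h1 hm (by rw [cA, hem]) y ?_ hf hk h
  intro a ha ha1 hc'
  apply hy
  have h2 : orderOf y = orderOf a := by
    obtain ⟨c, rfl⟩ := isConj_iff.1 hc'
    exact ((MulAut.conj c).orderOf_eq y).symm
  have h3 : orderOf a ∣ r := by
    have := orderOf_dvd_natCard (⟨a, ha⟩ : Subgroup.zpowers x)
    rwa [← Subgroup.orderOf_coe, cA] at this
  rcases (Nat.dvd_prime hr).1 h3 with h4 | h4
  · exact absurd (orderOf_eq_one_iff.1 h4) ha1
  · rw [h2, h4]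

end Col

/-! ### the alternating groups -/

open Cfsg.Agent.H701.ZAlt

/-- two of the rows `(n - 1, 1)`, `(n - 2, 2)`, `(n - 2, 1, 1)` have three zeros -/
theorem two_of_rows {n : ℕ} (hn : 7 ≤ n) (T1 T2 T3 : Finset (Multiset ℕ))
    (h1 : ∀ t ∈ T1, Ok n t ∧ n - t.sum = 1)
    (h2 : ∀ t ∈ T2, Ok n t ∧ (n - t.sum) * (n - t.sum) + 2 * t.count 2 = 3 * (n - t.sum))
    (h3 : ∀ t ∈ T3, Ok n t ∧ (n - t.sum) * (n - t.sum) + 2 = 3 * (n - t.sum) + 2 * t.count 2)
    (h : (3 ≤ T1.card ∧ 3 ≤ T2.card) ∨ (3 ≤ T1.card ∧ 3 ≤ T3.card) ∨ (3 ≤ T2.card ∧ 3 ≤ T3.card)) :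
    Two (alternatingGroup (Fin n)) := by
  classical
  have htr := H621.AltChar.trans_alt hn
  have hc : Nat.card (Fin n) = n := by rw [Nat.card_eq_fintype_card, Fintype.card_fin]
  have i1 := H621.AltChar.irr_one (G := alternatingGroup (Fin n)) (Ω := Fin n) (by rw [hc]; omega) htr
  have i2 := H621.AltChar.irr_a (G := alternatingGroup (Fin n)) (Ω := Fin n) (by rw [hc]; omega) htr
  have i3 := H621.AltChar.irr_b (G := alternatingGroup (Fin n)) (Ω := Fin n) (by rw [hc]; omega) htr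
  let χ1 : IrrCharacter (alternatingGroup (Fin n)) := ⟨_, i1⟩
  let χ2 : IrrCharacter (alternatingGroup (Fin n)) := ⟨_, i2⟩
  let χ3 : IrrCharacter (alternatingGroup (Fin n)) := ⟨_, i3⟩
  have nf1 : ∀ t, Ok n t → H621.AltChar.nf (Fin n) (el n t) = n - t.sum := by
    intro t ht
    have := nf_alt (el n t)
    rw [el_type ht] at this
    omega
  have nu1 : ∀ t, Ok n t → H621.AltChar.nu (Fin n) (el n t) = 2 * t.count 2 := by
    intro t ht
    rw [nu_alt, el_type ht]
  have z1 : ∀ g ∈ T1.image (el n), (χ1 : _ → ℂ) g = 0 := by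
    intro g hg
    obtain ⟨t, ht, rfl⟩ := Finset.mem_image.1 hg
    obtain ⟨a, b⟩ := h1 t ht
    show ((H621.AltChar.nf (Fin n) (el n t) : ℕ) : ℂ) - 1 = 0
    rw [nf1 t a, b, Nat.cast_one, sub_self]
  have z2 : ∀ g ∈ T2.image (el n), (χ2 : _ → ℂ) g = 0 := by
    intro g hg
    obtain ⟨t, ht, rfl⟩ := Finset.mem_image.1 hg
    obtain ⟨a, b⟩ := h2 t ht
    show (((H621.AltChar.nf (Fin n) (el n t) : ℕ) : ℂ) ^ 2 - 3 * ((H621.AltChar.nf (Fin n) (el n t) : ℕ) : ℂ) +
      ((H621.AltChar.nu (Fin n) (el n t) : ℕ) : ℂ)) / 2 = 0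
    rw [nf1 t a, nu1 t a]
    have b' : ((n - t.sum : ℕ) : ℂ) * ((n - t.sum : ℕ) : ℂ) + 2 * (t.count 2 : ℂ) = 3 * ((n - t.sum : ℕ) : ℂ) := by
      exact_mod_cast b
    push_cast at b' ⊢
    linear_combination b' / 2
  have z3 : ∀ g ∈ T3.image (el n), (χ3 : _ → ℂ) g = 0 := by
    intro g hg
    obtain ⟨t, ht, rfl⟩ := Finset.mem_image.1 hg
    obtain ⟨a, b⟩ := h3 t ht
    show (((H621.AltChar.nf (Fin n) (el n t) : ℕ) : ℂ) ^ 2 - 3 * ((H621.AltChar.nf (Fin n) (el n t) : ℕ) : ℂ) + 2 -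
      ((H621.AltChar.nu (Fin n) (el n t) : ℕ) : ℂ)) / 2 = 0
    rw [nf1 t a, nu1 t a]
    have b' : ((n - t.sum : ℕ) : ℂ) * ((n - t.sum : ℕ) : ℂ) + 2 = 3 * ((n - t.sum : ℕ) : ℂ) + 2 * (t.count 2 : ℂ) := by
      exact_mod_cast b
    push_cast at b' ⊢
    linear_combination b' / 2
  have e1 := nonConj_image T1 fun t ht => (h1 t ht).1
  have e2 := nonConj_image T2 fun t ht => (h2 t ht).1
  have e3 := nonConj_image T3 fun t ht => (h3 t ht).1
  have k1 := card_image T1 fun t ht => (h1 t ht).1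
  have k2 := card_image T2 fun t ht => (h2 t ht).1
  have k3 := card_image T3 fun t ht => (h3 t ht).1
  -- the three characters are different
  have o1 : (χ1 : alternatingGroup (Fin n) → ℂ) 1 = (n : ℂ) - 1 := by
    show ((H621.AltChar.nf (Fin n) (1 : alternatingGroup (Fin n)) : ℕ) : ℂ) - 1 = _
    rw [H621.AltChar.nf_one, hc]
  have o2 : (χ2 : alternatingGroup (Fin n) → ℂ) 1 = ((n : ℂ) ^ 2 - 3 * n) / 2 := by
    show (((H621.AltChar.nf (Fin n) (1 : alternatingGroup (Fin n)) : ℕ) : ℂ) ^ 2 -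
      3 * ((H621.AltChar.nf (Fin n) (1 : alternatingGroup (Fin n)) : ℕ) : ℂ) +
      ((H621.AltChar.nu (Fin n) (1 : alternatingGroup (Fin n)) : ℕ) : ℂ)) / 2 = _
    rw [H621.AltChar.nf_one, H621.AltChar.nu_one, hc, Nat.cast_zero, add_zero]
  have o3 : (χ3 : alternatingGroup (Fin n) → ℂ) 1 = ((n : ℂ) ^ 2 - 3 * n + 2) / 2 := by
    show (((H621.AltChar.nf (Fin n) (1 : alternatingGroup (Fin n)) : ℕ) : ℂ) ^ 2 -
      3 * ((H621.AltChar.nf (Fin n) (1 : alternatingGroup (Fin n)) : ℕ) : ℂ) + 2 -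
      ((H621.AltChar.nu (Fin n) (1 : alternatingGroup (Fin n)) : ℕ) : ℂ)) / 2 = _
    rw [H621.AltChar.nf_one, H621.AltChar.nu_one, hc, Nat.cast_zero, sub_zero]
  have n12 : χ1 ≠ χ2 := by
    intro e
    have h5 : ((n : ℂ) - 1) = ((n : ℂ) ^ 2 - 3 * n) / 2 := by rw [← o1, ← o2, e]
    have h6 : ((n * n + 2 : ℕ) : ℂ) = ((5 * n : ℕ) : ℂ) := by
      push_cast
      linear_combination -2 * h5
    have h7 : n * n + 2 = 5 * n := by exact_mod_cast h6
    nlinarith
  have n13 : χ1 ≠ χ3 := by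
    intro e
    have h5 : ((n : ℂ) - 1) = ((n : ℂ) ^ 2 - 3 * n + 2) / 2 := by rw [← o1, ← o3, e]
    have h6 : ((n * n + 4 : ℕ) : ℂ) = ((5 * n : ℕ) : ℂ) := by
      push_cast
      linear_combination -2 * h5
    have h7 : n * n + 4 = 5 * n := by exact_mod_cast h6
    nlinarith
  have n23 : χ2 ≠ χ3 := by
    intro e
    have h5 : ((n : ℂ) ^ 2 - 3 * n) / 2 = ((n : ℂ) ^ 2 - 3 * n + 2) / 2 := by rw [← o2, ← o3, e]
    have h6 : (0 : ℂ) = 1 := by linear_combination h5
    exact zero_ne_one h6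
  rcases h with ⟨a, b⟩ | ⟨a, b⟩ | ⟨a, b⟩
  · exact two_of_zeros n12 _ _ e1 e2 z1 z2 (by omega) (by omega)
  · exact two_of_zeros n13 _ _ e1 e3 z1 z3 (by omega) (by omega)
  · exact two_of_zeros n23 _ _ e2 e3 z2 z3 (by omega) (by omega)

theorem two_of_base {n m j : ℕ} (hn : 7 ≤ n) (hm : n = m + 2 * j + 1) (B : Finset (ℕ × Multiset ℕ))
    (hB : ∀ b ∈ B, 3 ≤ b.1 ∧ (∀ x ∈ b.2, 3 ≤ x ∧ x ≤ b.1) ∧ b.1 + b.2.sum = m ∧ Even (m + 1 + Multiset.card b.2))
    (h9 : 3 ≤ B.card) : Two (alternatingGroup (Fin n)) := by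
  classical
  set T := B.image fun b => (b.1 + 2 * j) ::ₘ b.2 with hT
  have hTc : 3 ≤ T.card := by
    rw [hT, Finset.card_image_of_injOn]
    · exact h9
    · intro b hb b' hb' e
      exact cons_inj (fun x hx => ((hB b hb).2.1 x hx).2) (fun x hx => ((hB b' hb').2.1 x hx).2) e
  have key : ∀ t ∈ T, t.sum + 1 = n ∧ Ok n t ∧ t.count 2 = 0 := by
    intro t ht
    obtain ⟨b, hb, rfl⟩ := Finset.mem_image.1 ht
    obtain ⟨h1, h2, h3, h4⟩ := hB b hb
    have h5 : ((b.1 + 2 * j) ::ₘ b.2).sum + 1 = n := by rw [Multiset.sum_cons]; omega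
    refine ⟨h5, ⟨by omega, ?_, ?_⟩, ?_⟩
    · intro a ha
      rcases Multiset.mem_cons.1 ha with h | h
      · omega
      · have := (h2 a h).1
        omega
    · rw [Multiset.sum_cons, Multiset.card_cons]
      have h5 : b.1 + 2 * j + b.2.sum + (Multiset.card b.2 + 1) = (m + 1 + Multiset.card b.2) + 2 * j := by omega
      rw [h5]
      exact h4.add (even_two_mul j)
    · rw [Multiset.count_eq_zero]
      intro ha
      rcases Multiset.mem_cons.1 ha with h | h
      · omega
      · have := (h2 2 h).1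
        omega
  refine two_of_rows hn T ∅ T ?_ ?_ ?_ (Or.inr (Or.inl ⟨hTc, hTc⟩))
  · intro t ht
    obtain ⟨h1, h2, -⟩ := key t ht
    exact ⟨h2, by omega⟩
  · intro t ht
    exact absurd ht (Finset.notMem_empty _)
  · intro t ht
    obtain ⟨h1, h2, h3⟩ := key t ht
    refine ⟨h2, ?_⟩
    have : n - t.sum = 1 := by omega
    rw [this, h3]

def evB : Finset (ℕ × Multiset ℕ) := {(9, {3}), (8, {4}), (7, {5}), (6, {6})}

def odB : Finset (ℕ × Multiset ℕ) := {(13, 0), (7, {3, 3}), (6, {4, 3}), (5, {5, 3})}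

theorem two_large {n : ℕ} (hn : 13 ≤ n) : Two (alternatingGroup (Fin n)) := by
  rcases Nat.even_or_odd n with h | h
  · obtain ⟨j, hj⟩ : ∃ j, n = 13 + 2 * j + 1 := by
      obtain ⟨k, hk⟩ := h
      exact ⟨k - 7, by omega⟩
    exact two_of_base (by omega) hj odB (by decide) (by decide)
  · obtain ⟨j, hj⟩ : ∃ j, n = 12 + 2 * j + 1 := by
      obtain ⟨k, hk⟩ := h
      exact ⟨k - 6, by omega⟩
    exact two_of_base (by omega) hj evB (by decide) (by decide)

theorem two_eight : Two (alternatingGroup (Fin 8)) := by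
  refine two_of_rows (by norm_num) ∅ {{5, 3}, {4, 4}, {4, 2}, {5}} {{7}, {3, 3}, {6, 2}} ?_ ?_ ?_ ?_ <;> decide

theorem two_nine : Two (alternatingGroup (Fin 9)) := by
  refine two_of_rows (by norm_num) {{6, 2}, {5, 3}, {4, 4}} ∅ {{5, 3}, {4, 4}, {7}} ?_ ?_ ?_ ?_ <;> decide

theorem two_ten : Two (alternatingGroup (Fin 10)) := by
  refine two_of_rows (by norm_num) {{9}, {5, 2, 2}, {4, 3, 2}} ∅ {{9}, {8, 2}, {5, 3}} ?_ ?_ ?_ ?_ <;> decide

theorem two_eleven : Two (alternatingGroup (Fin 11)) := by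
  refine two_of_rows (by norm_num) {{8, 2}, {7, 3}, {6, 4}} {{11}, {8, 2}, {5, 3, 3}} ∅ ?_ ?_ ?_ ?_ <;> decide

theorem two_twelve : Two (alternatingGroup (Fin 12)) := by
  refine two_of_rows (by norm_num) {{11}, {7, 2, 2}, {6, 3, 2}} {{9, 3}, {9}, {8, 4}} ∅ ?_ ?_ ?_ ?_ <;> decide

theorem two_seven : Two (alternatingGroup (Fin 7)) := by
  classical
  have hc := seven_cent (n := 7) (Or.inl rfl)
  have ho : orderOf (el 7 {7}) = 7 := by rw [order_el (by decide)]; decide
  have hk := H701.ZCols.classes_of_prime (by norm_num) ho hc card_seven (e := 3) (m := 2) (by norm_num) (by norm_num)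
    (({0, {3}, {5}, {2, 2}, {3, 3}, {4, 2}, {3, 2, 2}} : Finset (Multiset ℕ)).image (el 7))
    (nonConj_image _ (by decide)) (order_ne _ (by decide) (by decide))
  rw [card_image _ (by decide), show (({0, {3}, {5}, {2, 2}, {3, 3}, {4, 2}, {3, 2, 2}} :
    Finset (Multiset ℕ)).card) = 7 by decide] at hk
  refine two_of_prime_col2 (k := 9) (f := 4) (by norm_num) ho hc card_seven (e := 3) (m := 2) (by norm_num)
    (by norm_num) (by norm_num) (el 7 {4, 2}) ?_ ?_ hk (by norm_num)
  · rw [order_el (by decide)]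
    decide
  · exact (nv_le_card_centralizer _).trans (cent_el_le (b := 4) (by decide) (Or.inl (by decide)) (by decide))

theorem row1_alt {n : ℕ} (hn : 7 ≤ n) : Two (alternatingGroup (Fin n)) := by
  rcases Nat.lt_or_ge n 13 with h | h
  · interval_cases n
    · exact two_seven
    · exact two_eight
    · exact two_nine
    · exact two_ten
    · exact two_eleven
    · exact two_twelve
  · exact two_large h

/-! ### the symmetric groups -/

theorem nf_perm {n : ℕ} (x : Perm (Fin n)) : H621.AltChar.nf (Fin n) x + x.cycleType.sum = n := by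
  classical
  rw [H621.AltChar.nf, Nat.card_eq_fintype_card, Fintype.card_subtype, Equiv.Perm.sum_cycleType]
  have h1 : (Finset.univ.filter fun a : Fin n => x • a = a) = (x : Perm (Fin n)).supportᶜ := by
    ext a
    rw [Finset.mem_filter, Finset.mem_compl, Equiv.Perm.mem_support, not_not]
    exact ⟨fun h => h.2, fun h => ⟨Finset.mem_univ _, h⟩⟩
  rw [h1, Finset.card_compl, Fintype.card_fin]
  have := Finset.card_le_univ (x : Perm (Fin n)).support
  rw [Fintype.card_fin] at this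
  omega

theorem alt_ne_top {n : ℕ} (hn : 2 ≤ n) : (alternatingGroup (Fin n) : Subgroup (Perm (Fin n))) ≠ ⊤ := by
  intro h
  have : Nontrivial (Fin n) := Fin.nontrivial_iff_two_le.2 hn
  have h1 : (alternatingGroup (Fin n)).index = 2 := alternatingGroup.index_eq_two
  rw [h, Subgroup.index_top] at h1
  norm_num at h1

theorem two_perm {n : ℕ} (hn : 7 ≤ n) : Two (Perm (Fin n)) := by
  classical
  have hc : Nat.card (Fin n) = n := by rw [Nat.card_eq_fintype_card, Fintype.card_fin]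
  have htr : MulAction.IsMultiplyPretransitive (Perm (Fin n)) (Fin n) 4 :=
    Equiv.Perm.isMultiplyPretransitive (Fin n) 4
  have i1 := H621.AltChar.irr_one (G := Perm (Fin n)) (Ω := Fin n) (by rw [hc]; omega) htr
  have i2 := H621.AltChar.irr_one (G := alternatingGroup (Fin n)) (Ω := Fin n) (by rw [hc]; omega)
    (H621.AltChar.trans_alt hn)
  have hne := alt_ne_top (n := n) (by omega)
  let χ : IrrCharacter (Perm (Fin n)) := ⟨_, i1⟩
  refine two_of_gallagher (χ := χ) (alternatingGroup (Fin n)) hne i2 ?_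
  -- three cycle types
  have hex : ∀ t : Multiset ℕ, t.sum ≤ n → (∀ a ∈ t, 2 ≤ a) → ∃ x : Perm (Fin n), x.cycleType = t := by
    intro t h1 h2
    exact (Equiv.Perm.exists_with_cycleType_iff (Fin n)).2 ⟨by rw [Fintype.card_fin]; exact h1, h2⟩
  obtain ⟨a, ha⟩ := hex {n - 1} (by simp) (by simp; omega)
  obtain ⟨b, hb⟩ := hex {n - 3, 2} (by simp; omega) (by simp; omega)
  obtain ⟨c, hcc⟩ := hex {n - 4, 3} (by simp; omega) (by simp; omega)
  have hsum : ∀ x : Perm (Fin n), x.cycleType.sum + 1 = n → (χ : Perm (Fin n) → ℂ) x = 0 := by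
    intro x hx
    have h1 := nf_perm x
    have h2 : H621.AltChar.nf (Fin n) x = 1 := by omega
    show ((H621.AltChar.nf (Fin n) x : ℕ) : ℂ) - 1 = 0
    rw [h2, Nat.cast_one, sub_self]
  have hnc : ∀ x y : Perm (Fin n), x.cycleType ≠ y.cycleType → ¬ IsConj x y := by
    intro x y h hc
    exact h (Equiv.Perm.isConj_iff_cycleType_eq.1 hc)
  have hcd : ∀ x y : Perm (Fin n), x.cycleType ≠ y.cycleType → x ≠ y := by
    rintro x y h rfl
    exact h rfl
  have hab : a.cycleType ≠ b.cycleType := by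
    rw [ha, hb]
    intro h
    have := congrArg Multiset.card h
    simp at this
  have hac : a.cycleType ≠ c.cycleType := by
    rw [ha, hcc]
    intro h
    have := congrArg Multiset.card h
    simp at this
  have hbc : b.cycleType ≠ c.cycleType := by
    rw [hb, hcc]
    intro h
    have h1 : 2 ∈ ({n - 4, 3} : Multiset ℕ) := by rw [← h]; simp
    simp at h1
    omega
  refine le_trans ?_ (le_zc (χ := χ) (s := {a, b, c}) ?_ ?_)
  · rw [Finset.card_insert_of_notMem, Finset.card_insert_of_notMem, Finset.card_singleton]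
    · simpa using hcd b c hbc
    · simp only [Finset.mem_insert, Finset.mem_singleton, not_or]
      exact ⟨hcd a b hab, hcd a c hac⟩
  · intro g hg h hh hc
    simp only [Finset.mem_insert, Finset.mem_singleton] at hg hh
    rcases hg with rfl | rfl | rfl <;> rcases hh with rfl | rfl | rfl <;>
      first
        | rfl
        | exact absurd hc (hnc _ _ hab)
        | exact absurd hc (hnc _ _ hac)
        | exact absurd hc (hnc _ _ hbc)
        | exact absurd hc.symm (hnc _ _ hab)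
        | exact absurd hc.symm (hnc _ _ hac)
        | exact absurd hc.symm (hnc _ _ hbc)
  · intro g hg
    simp only [Finset.mem_insert, Finset.mem_singleton] at hg
    rcases hg with rfl | rfl | rfl
    · apply hsum; rw [ha]; simp; omega
    · apply hsum; rw [hb]; simp; omega
    · apply hsum; rw [hcc]; simp; omega

/-- an almost simple group with socle `Aₙ`, `n ≥ 7`, different from its socle, is `Sₙ` -/
theorem equiv_perm {n : ℕ} (hn : 7 ≤ n) {G : Type u} [Group G] [Finite G] (N : Subgroup G) [N.Normal]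
    (e : N ≃* alternatingGroup (Fin n)) (hC : Subgroup.centralizer (N : Set G) = ⊥) (hN : N ≠ ⊤) :
    Nonempty (G ≃* Perm (Fin n)) := by
  classical
  obtain ⟨ψ, hψ⟩ := Cfsg.Agent.StandardComponent.AltAut.exists_autHom n hn
  let c : G →* MulAut (alternatingGroup (Fin n)) := (MulAut.congr e).toMonoidHom.comp (MulAut.conjNormal (H := N))
  have hc : ∀ (g : G) (x : alternatingGroup (Fin n)), c g x = e (MulAut.conjNormal g (e.symm x)) := fun g x => rfl
  let φ : G →* Perm (Fin n) := ψ.comp c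
  have hφ : ∀ (g : G) (x : alternatingGroup (Fin n)),
      ((e (MulAut.conjNormal g (e.symm x)) : alternatingGroup (Fin n)) : Perm (Fin n)) = φ g * x * (φ g)⁻¹ := by
    intro g x
    rw [← hc]
    exact hψ (c g) x
  have hinj : Function.Injective φ := by
    rw [injective_iff_map_eq_one]
    intro g hg
    have h1 : g ∈ Subgroup.centralizer (N : Set G) := by
      rw [Subgroup.mem_centralizer_iff]
      intro x hx
      have h2 := hφ g (e ⟨x, hx⟩)
      rw [hg, one_mul, inv_one, mul_one, e.symm_apply_apply] at h2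
      have h3 := e.injective (Subtype.ext h2)
      have h4 : g * x * g⁻¹ = x := by
        have := congrArg Subtype.val h3
        rwa [MulAut.conjNormal_apply] at this
      calc x * g = g * x * g⁻¹ * g := by rw [h4]
        _ = g * x := by group
    rw [hC] at h1
    exact Subgroup.mem_bot.1 h1
  have hfin : Finite (Perm (Fin n)) := inferInstance
  -- the order of `G`
  have hcardN : Nat.card N = Nat.card (alternatingGroup (Fin n)) := Nat.card_congr e.toEquiv
  have hA : 2 * Nat.card (alternatingGroup (Fin n)) = Nat.card (Perm (Fin n)) := by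
    have h1 := (alternatingGroup (Fin n)).index_mul_card
    have : Nontrivial (Fin n) := Fin.nontrivial_iff_two_le.2 (by omega)
    rw [alternatingGroup.index_eq_two] at h1
    exact h1
  have h1 : Nat.card G = Nat.card φ.range := Nat.card_congr (MonoidHom.ofInjective hinj).toEquiv
  have h2 : Nat.card φ.range ∣ Nat.card (Perm (Fin n)) := Subgroup.card_subgroup_dvd_card _
  have h3 := N.index_mul_card
  have h4 : N.index ≠ 1 := fun h => hN (Subgroup.index_eq_one.1 h)
  have h5 : N.index ≠ 0 := Subgroup.index_ne_zero_of_finite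
  have h6 : N.index * Nat.card (alternatingGroup (Fin n)) ∣ 2 * Nat.card (alternatingGroup (Fin n)) := by
    rw [hA, ← hcardN, h3, h1]
    exact h2
  have h7 : 0 < Nat.card (alternatingGroup (Fin n)) := Nat.card_pos
  have h8 : N.index ∣ 2 := Nat.dvd_of_mul_dvd_mul_right h7 h6
  have h9 : N.index = 2 := ((Nat.dvd_prime Nat.prime_two).1 h8).resolve_left h4
  have h10 : Nat.card G = Nat.card (Perm (Fin n)) := by rw [← h3, h9, hcardN, hA]
  exact ⟨MulEquiv.ofBijective φ ((Nat.bijective_iff_injective_and_card φ).2 ⟨hinj, h10⟩)⟩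

/-- **The alternating row.** -/
theorem rowT_alt (n : ℕ) (hn : 7 ≤ n) : RowT (alternatingGroup (Fin n)) := by
  refine ⟨Or.inl (row1_alt hn), ?_⟩
  rintro G _ _ N _ ⟨e⟩ hC - hN
  obtain ⟨f⟩ := equiv_perm hn N e hC hN
  exact Or.inl ((two_perm hn).of_equiv f)

end Cfsg.Agent.H686.TZ
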