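import Cfsg.Agent.H686.TZ.PSL3
import Cfsg.Agent.H956.ZerosPSU3
import Cfsg.Agent.H127.PSUThreeEx
import Cfsg.Agent.ClassicalGeometry.HermWitt

/-!
# The row `PSU(3, q)` of S4897
-/

set_option autoImplicit false
set_option maxRecDepth 20000

namespace Cfsg.Agent.H686.TZ.PSU3

open Cfsg Cfsg.Agent.H504 Cfsg.Agent.H504.Zeros Cfsg.Agent.H504.TwoZ
open Cfsg.Agent.Characters.Core Matrix Cfsg.Agent.LieClassical
open Cfsg.Agent.H92 Cfsg.Agent.H674.SUTools Cfsg.Agent.H674.SUBlock Cfsg.Agent.H674.Explicit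
open Cfsg.Agent.H674.ExplicitCases Cfsg.Agent.H674.TwelvePSU

section basic

variable {F : Type} [Field F] [Fintype F] {q : ℕ}

/-- comparison in the quotient -/
theorem of_pr_eq (hF : Fintype.card F = q ^ 2) {x y : Cfsg.SU 3 F q} (h : pr x = pr y) :
    ∃ c : F, cm y = c • cm x := by
  have h1 : x⁻¹ * y ∈ Subgroup.center (Cfsg.SU 3 F q) := QuotientGroup.eq.1 h
  obtain ⟨c, hcn, hcq, h2⟩ := (SUBasic.mem_center_SU_iff hF le_rfl _).1 h1
  refine ⟨c, ?_⟩
  have h3 : cm (x⁻¹ * y) = Matrix.diagonal (fun _ => c) := congrArg cm h2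
  have h4 : cm y = cm x * cm (x⁻¹ * y) := by rw [← map_mul, mul_inv_cancel_left]
  rw [h4, h3, ← Matrix.smul_one_eq_diagonal, Matrix.mul_smul, Matrix.mul_one]

omit [Fintype F] in
theorem pr_eq_one_of {x : Cfsg.SU 3 F q} {c : F} (h : cm x = c • 1) : pr x = 1 := by
  rw [pr_eq_one_iff, Subgroup.mem_center_iff]
  intro y
  apply cm_injective
  rw [map_mul, map_mul, h, Matrix.mul_smul, Matrix.mul_one, Matrix.smul_mul, Matrix.one_mul]

theorem commute_pr (hF : Fintype.card F = q ^ 2) {g m : Cfsg.SU 3 F q} (h : Commute (pr g) (pr m)) :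
    ∃ c : F, cm g * cm m = c • (cm m * cm g) := by
  have h1 : pr (m * g) = pr (g * m) := by
    rw [map_mul, map_mul]
    exact h.symm
  obtain ⟨c, hc⟩ := of_pr_eq hF h1
  exact ⟨c, by rw [map_mul, map_mul] at hc; exact hc⟩

theorem psu_finite : Finite (Cfsg.PSU 3 F q) := inferInstance

/-- elements of order four in characteristic two -/
theorem exists_four (hF : Fintype.card F = q ^ 2) [CharP F 2] : ∃ z : Cfsg.PSU 3 F q, orderOf z = 4 := by
  have hq := GUOrder.two_le hF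
  have hne : GUOrder.frob hF ≠ RingHom.id F := by
    intro h
    obtain ⟨a, ha⟩ := H127.PSUThreeEx.exists_unit_order hF (dvd_refl (q ^ 2 - 1))
    have h1 : (a : F) ^ q = a := by
      have := congrArg (fun f : F →+* F => f (a : F)) h
      simpa [GUOrder.frob_apply] using this
    have h2 : a ^ (q - 1) = 1 := by
      have h3 : a ^ (q - 1) * a = 1 * a := by
        rw [← pow_succ, Nat.sub_add_cancel (by omega), one_mul]
        apply Units.ext
        rw [Units.val_pow_eq_pow_val, h1]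
      exact mul_right_cancel h3
    have h4 := orderOf_dvd_of_pow_eq_one h2
    rw [ha] at h4
    have h5 := Nat.le_of_dvd (by omega) h4
    have h6 : q * q ≤ q := by
      rw [pow_two] at h5
      omega
    nlinarith
  obtain ⟨a, ha⟩ := Cfsg.Agent.ClassicalGeometry.HermWitt.trace_surj (GUOrder.frob hF) hne (GUOrder.frob_frob hF) 1 (map_one _)
  obtain ⟨b, hb⟩ : ∃ b, GUOrder.frob hF a = b := ⟨_, rfl⟩
  have hba : GUOrder.frob hF b = a := by rw [← hb, GUOrder.frob_frob]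
  rw [hb] at ha
  have h2 : (2 : F) = 0 := by
    have := CharP.cast_eq_zero F 2
    exact_mod_cast this
  set M : Matrix (Fin 3) (Fin 3) F := !![b, a, 1; a, b, 1; 1, 1, 1] with hM
  have hdet : M.det = 1 := by
    rw [Matrix.det_fin_three, hM]
    simp
    linear_combination (b - a - 1) * ha + (a - 1) * h2
  have hiso : Mᵀ * M.map (GUOrder.frob hF) = 1 := by
    have h3 : M.map (GUOrder.frob hF) = !![a, b, 1; b, a, 1; 1, 1, 1] := by
      rw [hM]
      ext i j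
      fin_cases i <;> fin_cases j <;> simp [hb, hba]
    rw [h3, hM]
    ext i j
    fin_cases i <;> fin_cases j <;> simp [Matrix.mul_apply, Fin.sum_univ_three] <;>
      first
        | linear_combination (a * b) * h2
        | linear_combination (a + b + 1) * ha + (1 - a * b) * h2
        | linear_combination ha + h2
        | linear_combination h2
  have hM2 : M * M = !![0, 1, 0; 1, 0, 0; 0, 0, 1] := by
    rw [hM]
    ext i j
    fin_cases i <;> fin_cases j <;> simp [Matrix.mul_apply, Fin.sum_univ_three] <;>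
      first
        | linear_combination (a * b) * h2
        | linear_combination (a + b + 1) * ha + (1 - a * b) * h2
        | linear_combination ha + h2
        | linear_combination h2
  let x := mkSU hF M hdet hiso
  have : Fact (Nat.Prime 2) := ⟨Nat.prime_two⟩
  refine ⟨pr x, ?_⟩
  show orderOf _ = 2 ^ (1 + 1)
  refine orderOf_eq_prime_pow ?_ ?_
  · intro h
    have h1 : pr (1 : Cfsg.SU 3 F q) = pr (x * x) := by
      rw [map_one, map_mul, ← h, pow_one, pow_two]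
    obtain ⟨c, hc⟩ := of_pr_eq hF h1
    rw [map_mul, map_one, show cm x = M from rfl, hM2] at hc
    have := congrFun (congrFun hc 0) 1
    simp at this
  · have h1 : (pr x) ^ (2 ^ (1 + 1)) = pr ((x * x) * (x * x)) := by
      rw [map_mul, map_mul, ← pow_two, ← pow_two, ← pow_mul]
      norm_num
    rw [h1]
    refine pr_eq_one_of (c := 1) ?_
    rw [map_mul, map_mul, show cm x = M from rfl, hM2]
    ext i j
    fin_cases i <;> fin_cases j <;> simp [Matrix.mul_apply, Fin.sum_univ_three]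

/-- the centralizer of a regular element -/
theorem card_cent_le (hF : Fintype.card F = q ^ 2) (m : Cfsg.SU 3 F q) (P Q : Matrix (Fin 3) (Fin 3) F)
    (hPQ : P * Q = 1) (hQP : Q * P = 1) (d : Fin 3 → F) (hd : Function.Injective d)
    (hM : cm m * P = P * Matrix.diagonal d) (hH : (Pᵀ * P.map (GUOrder.frob hF)) 0 1 ≠ 0)
    (htr : (cm m).trace ≠ 0) :
    Nat.gcd 3 (q + 1) * Nat.card (Subgroup.centralizer ({pr m} : Set (Cfsg.PSU 3 F q))) ≤ q ^ 2 - 1 := by
  classical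
  set H := Pᵀ * P.map (GUOrder.frob hF) with hHdef
  have hQM : Q * cm m = Matrix.diagonal d * Q := by
    calc Q * cm m = Q * (cm m * P) * Q := by rw [Matrix.mul_assoc, Matrix.mul_assoc, hPQ, Matrix.mul_one]
      _ = Matrix.diagonal d * Q := by rw [hM, ← Matrix.mul_assoc, hQP, Matrix.one_mul]
  -- the preimage of the centralizer
  set C := (Subgroup.centralizer ({pr m} : Set (Cfsg.PSU 3 F q))).comap pr with hC
  have key : ∀ g ∈ C, ∃ μ : Fin 3 → F, Q * cm g * P = Matrix.diagonal μ ∧ μ 0 * GUOrder.frob hF (μ 1) = 1 ∧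
      μ 0 * μ 1 * μ 2 = 1 := by
    intro g hg
    have h1 : Commute (pr g) (pr m) := ((Subgroup.mem_centralizer_iff.1 hg) (pr m) rfl).symm
    obtain ⟨c, hc⟩ := commute_pr hF h1
    have hgi : cm g * cm g⁻¹ = 1 := by rw [← map_mul, mul_inv_cancel, map_one]
    have hig : cm g⁻¹ * cm g = 1 := by rw [← map_mul, inv_mul_cancel, map_one]
    have hc1 : c = 1 := by
      have h2 : (cm g * cm m * cm g⁻¹).trace = (cm m).trace := by
        rw [Matrix.trace_mul_cycle, hig, Matrix.one_mul]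
      rw [hc, Matrix.smul_mul, Matrix.mul_assoc, hgi, Matrix.mul_one, Matrix.trace_smul, smul_eq_mul] at h2
      have h3 : (c - 1) * (cm m).trace = 0 := by rw [sub_mul, h2]; ring
      exact sub_eq_zero.1 ((mul_eq_zero.1 h3).resolve_right htr)
    rw [hc1, one_smul] at hc
    set g' := Q * cm g * P with hg'
    have hcomm : g' * Matrix.diagonal d = Matrix.diagonal d * g' := by
      calc g' * Matrix.diagonal d = Q * cm g * (P * Matrix.diagonal d) := by rw [hg', Matrix.mul_assoc]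
        _ = Q * (cm g * cm m) * P := by rw [← hM]; simp only [Matrix.mul_assoc]
        _ = (Q * cm m) * (cm g * P) := by rw [hc]; simp only [Matrix.mul_assoc]
        _ = Matrix.diagonal d * g' := by rw [hQM, hg']; simp only [Matrix.mul_assoc]
    have hdiag : g' = Matrix.diagonal (fun i => g' i i) := by
      ext i j
      by_cases hij : i = j
      · subst hij
        rw [Matrix.diagonal_apply_eq]
      · rw [Matrix.diagonal_apply_ne _ hij]
        have h2 := congrFun (congrFun hcomm i) j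
        rw [Matrix.mul_diagonal, Matrix.diagonal_mul] at h2
        have h3 : g' i j * (d j - d i) = 0 := by rw [mul_sub, h2]; ring
        exact (mul_eq_zero.1 h3).resolve_right (sub_ne_zero.2 fun h => hij (hd h).symm)
    refine ⟨fun i => g' i i, hdiag, ?_, ?_⟩
    · -- the form
      have hPg : P * g' = cm g * P := by
        rw [hg', ← Matrix.mul_assoc, ← Matrix.mul_assoc, hPQ, Matrix.one_mul]
      have h2 : g'ᵀ * H * g'.map (GUOrder.frob hF) = H := by
        have h3 : (P * g')ᵀ * (P * g').map (GUOrder.frob hF) = H := by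
          rw [hPg, Matrix.transpose_mul, Matrix.map_mul, Matrix.mul_assoc, ← Matrix.mul_assoc (cm g)ᵀ,
            cm_isom hF g, Matrix.one_mul]
        rw [Matrix.transpose_mul, Matrix.map_mul] at h3
        calc g'ᵀ * H * g'.map (GUOrder.frob hF) =
            g'ᵀ * Pᵀ * (P.map (GUOrder.frob hF) * g'.map (GUOrder.frob hF)) := by
              rw [hHdef]; simp only [Matrix.mul_assoc]
          _ = H := h3
      have h3 := congrFun (congrFun h2 0) 1
      rw [hdiag] at h3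
      rw [Matrix.diagonal_transpose, Matrix.diagonal_map (map_zero _), Matrix.mul_diagonal,
        Matrix.diagonal_mul] at h3
      have h4 : (g' 0 0 * GUOrder.frob hF (g' 1 1) - 1) * H 0 1 = 0 := by
        rw [sub_mul, one_mul, sub_eq_zero]
        linear_combination h3
      exact sub_eq_zero.1 ((mul_eq_zero.1 h4).resolve_right hH)
    · have h2 : g'.det = 1 := by
        rw [hg', Matrix.det_mul, Matrix.det_mul, det_cm, mul_one, ← Matrix.det_mul, hQP, Matrix.det_one]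
      rw [hdiag, Matrix.det_diagonal, Fin.prod_univ_three] at h2
      exact h2
  choose! μ hμ1 hμ2 hμ3 using key
  have hμ0 : ∀ g ∈ C, μ g 0 ≠ 0 := by
    intro g hg h
    have := hμ2 g hg
    rw [h, zero_mul] at this
    exact zero_ne_one this
  have hinj : Function.Injective (fun g : C => Units.mk0 (μ g 0) (hμ0 g g.2)) := by
    intro g h hgh
    have h0 : μ g 0 = μ h 0 := congrArg Units.val hgh
    have h1 : μ g 1 = μ h 1 := by
      have e1 := hμ2 g g.2
      have e2 := hμ2 h h.2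
      rw [← h0] at e2
      have e3 : GUOrder.frob hF (μ g 1) = GUOrder.frob hF (μ h 1) :=
        mul_left_cancel₀ (hμ0 g g.2) (e1.trans e2.symm)
      exact (GUOrder.frob hF).injective e3
    have h2 : μ g 2 = μ h 2 := by
      have e1 := hμ3 g g.2
      have e2 := hμ3 h h.2
      rw [← h0, ← h1] at e2
      have e4 : μ g 0 * μ g 1 ≠ 0 := by
        intro e
        rw [e, zero_mul] at e1
        exact zero_ne_one e1
      exact mul_left_cancel₀ e4 (e1.trans e2.symm)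
    have h3 : μ g = μ h := by
      funext i
      fin_cases i
      · exact h0
      · exact h1
      · exact h2
    apply Subtype.ext
    apply cm_injective
    have e1 := hμ1 g g.2
    rw [h3, ← hμ1 h h.2] at e1
    calc cm (g : Cfsg.SU 3 F q) = P * (Q * cm (g : Cfsg.SU 3 F q) * P) * Q := by
          rw [Matrix.mul_assoc, Matrix.mul_assoc, Matrix.mul_assoc, hPQ, Matrix.mul_one, ← Matrix.mul_assoc, hPQ,
            Matrix.one_mul]
      _ = P * (Q * cm (h : Cfsg.SU 3 F q) * P) * Q := by rw [e1]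
      _ = cm (h : Cfsg.SU 3 F q) := by
          rw [Matrix.mul_assoc, Matrix.mul_assoc, Matrix.mul_assoc, hPQ, Matrix.mul_one, ← Matrix.mul_assoc, hPQ,
            Matrix.one_mul]
  have hcardC : Nat.card C ≤ q ^ 2 - 1 := by
    have := Nat.card_le_card_of_injective _ hinj
    rwa [Nat.card_units, Nat.card_eq_fintype_card (α := F), hF] at this
  -- the center
  have hZ : Nat.card (Subgroup.center (Cfsg.SU 3 F q)) = Nat.gcd 3 (q + 1) := Cfsg.Agent.S0279.result hF 3 le_rfl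
  have h1 := C.card_mul_index
  rw [hC, Subgroup.index_comap_of_surjective _ pr_surjective] at h1
  have h2 := (Subgroup.centralizer ({pr m} : Set (Cfsg.PSU 3 F q))).card_mul_index
  have h3 := (Subgroup.center (Cfsg.SU 3 F q)).card_mul_index
  have h4 : Nat.card (Cfsg.PSU 3 F q) = (Subgroup.center (Cfsg.SU 3 F q)).index := rfl
  have hpos : 0 < (Subgroup.centralizer ({pr m} : Set (Cfsg.PSU 3 F q))).index :=
    Nat.pos_of_ne_zero Subgroup.index_ne_zero_of_finite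
  rw [← h4, ← h2, hZ, ← h1, ← mul_assoc] at h3
  have h5 := Nat.eq_of_mul_eq_mul_right hpos h3
  rw [h5, ← hC]
  exact hcardC

/-- in odd characteristic a regular unipotent element does not commute with an involution -/
theorem not_commute (hF : Fintype.card F = q ^ 2) (h2 : (2 : F) ≠ 0) (m : Cfsg.SU 3 F q)
    (P Q : Matrix (Fin 3) (Fin 3) F) (hPQ : P * Q = 1) (hQP : Q * P = 1)
    (hM : cm m * P = P * !![1, 1, 0; 0, 1, 1; 0, 0, 1]) (y : Cfsg.PSU 3 F q) (hy : orderOf y = 2) :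
    ¬ Commute (pr m) y := by
  intro hc
  obtain ⟨g, rfl⟩ := pr_surjective y
  obtain ⟨c, hc⟩ := commute_pr hF hc.symm
  obtain ⟨s, hs⟩ : ∃ s : F, cm g * cm g = s • 1 := by
    have h1 : pr (1 : Cfsg.SU 3 F q) = pr (g * g) := by
      have := pow_orderOf_eq_one (pr g)
      rw [hy, pow_two, ← map_mul] at this
      rw [this, map_one]
    obtain ⟨s, hs⟩ := of_pr_eq hF h1
    exact ⟨s, by rw [map_mul, map_one] at hs; exact hs⟩
  set U : Matrix (Fin 3) (Fin 3) F := !![1, 1, 0; 0, 1, 1; 0, 0, 1] with hU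
  have hQM : Q * cm m = U * Q := by
    calc Q * cm m = Q * (cm m * P) * Q := by rw [Matrix.mul_assoc, Matrix.mul_assoc, hPQ, Matrix.mul_one]
      _ = U * Q := by rw [hM, ← Matrix.mul_assoc, hQP, Matrix.one_mul]
  set g' := Q * cm g * P with hg'
  have h3 : g' * U = c • (U * g') := by
    calc g' * U = Q * cm g * (P * U) := by rw [hg', Matrix.mul_assoc]
      _ = Q * (cm g * cm m) * P := by rw [← hM]; simp only [Matrix.mul_assoc]
      _ = c • ((Q * cm m) * (cm g * P)) := by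
          rw [hc, Matrix.mul_smul, Matrix.smul_mul]; simp only [Matrix.mul_assoc]
      _ = c • (U * g') := by rw [hQM, hg']; simp only [Matrix.mul_assoc]
  have h4 : g' * g' = s • 1 := by
    calc g' * g' = Q * (cm g * (P * Q) * cm g) * P := by rw [hg']; simp only [Matrix.mul_assoc]
      _ = s • 1 := by rw [hPQ, Matrix.mul_one, hs, Matrix.mul_smul, Matrix.mul_one, Matrix.smul_mul, hQP]
  have hdet : g'.det ≠ 0 := by
    rw [hg', Matrix.det_mul, Matrix.det_mul, det_cm, mul_one, ← Matrix.det_mul, hQP, Matrix.det_one]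
    exact one_ne_zero
  obtain ⟨t, ht⟩ := PSL3.scalar_of_comm h2 g' hdet h3 h4
  have h5 : cm g = t • 1 := by
    calc cm g = P * g' * Q := by
          rw [hg']
          calc cm g = (P * Q) * cm g * (P * Q) := by rw [hPQ, Matrix.one_mul, Matrix.mul_one]
            _ = P * (Q * cm g * P) * Q := by simp only [Matrix.mul_assoc]
      _ = t • 1 := by rw [ht, Matrix.mul_smul, Matrix.mul_one, Matrix.smul_mul, hPQ]
  rw [pr_eq_one_of h5, orderOf_one] at hy
  omega

end basic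

section row

variable {F : Type} [Field F] [Fintype F] {q : ℕ}

theorem lieChar (p : ℕ) [CharP F p] (hF : Fintype.card F = q ^ 2) (hq : q ≠ 2) :
    IsLieTypeChar p (Cfsg.PSU 3 F q) :=
  Or.inr (Or.inr (Or.inl ⟨F, inferInstance, inferInstance, inferInstance, 3, q, hF, le_rfl, fun h => hq h.2,
    ⟨MulEquiv.refl _⟩⟩))

theorem simple (hF : Fintype.card F = q ^ 2) (hq : q ≠ 2) : IsSimpleGroup (Cfsg.PSU 3 F q) :=
  Cfsg.Agent.S0283.result hF 3 le_rfl fun h => hq h.2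

theorem not_comm (hF : Fintype.card F = q ^ 2) (hq : q ≠ 2) : ¬ IsMulCommutative (Cfsg.PSU 3 F q) := by
  intro h
  have hs := simple hF hq
  have h12 := Cfsg.Agent.H674.TwelvePSU.twelve_le_psu F 3 q hF le_rfl (fun h => hq h.2)
  -- three orders
  obtain ⟨p, hp⟩ := CharP.exists F
  have hpf : Fact p.Prime := ⟨CharP.char_is_prime F p⟩
  have hq2 := GUOrder.two_le hF
  obtain ⟨s, hs0⟩ : Nat.gcd 3 (q + 1) ∣ q + 1 := Nat.gcd_dvd_right _ _
  have hd3 : Nat.gcd 3 (q + 1) ≤ 3 := Nat.gcd_le_left _ (by norm_num)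
  have hd0 : 0 < Nat.gcd 3 (q + 1) := Nat.gcd_pos_of_pos_left _ (by norm_num)
  have hs2 : 2 ≤ s := by
    by_contra hcon
    have h1 : s ≤ 1 := by omega
    have h2 : q + 1 ≤ 3 * 1 := by
      rw [hs0]
      exact Nat.mul_le_mul hd3 h1
    omega
  have hdiv : p * (q + 1) / Nat.gcd 3 (q + 1) = p * s := by
    nth_rewrite 1 [hs0]
    rw [show p * (Nat.gcd 3 (q + 1) * s) = p * s * Nat.gcd 3 (q + 1) by ring, Nat.mul_div_cancel _ hd0]
  have hpp := hpf.out.two_le
  obtain ⟨x, hx⟩ := H127.PSUThreeEx.ex_two (F := F) p hF (p * s) (by rw [hdiv])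
  have hcomm : ∀ a b : Cfsg.PSU 3 F q, a * b = b * a := fun a b => h.is_comm.comm a b
  have hn : (Subgroup.zpowers (x ^ p)).Normal := ⟨fun a ha g => by
    rw [hcomm g a, mul_inv_cancel_right]; exact ha⟩
  have hxp : orderOf (x ^ p) = s := by
    rw [orderOf_pow' x (by omega), hx, Nat.gcd_eq_right (Dvd.intro _ rfl), Nat.mul_div_cancel_left _ (by omega)]
  rcases hn.eq_bot_or_eq_top with h1 | h1
  · rw [Subgroup.zpowers_eq_bot] at h1
    rw [h1, orderOf_one] at hxp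
    omega
  · have h2 : x ∈ Subgroup.zpowers (x ^ p) := h1 ▸ Subgroup.mem_top x
    have h3 := orderOf_dvd_of_mem_zpowers h2
    rw [hx, hxp] at h3
    have h4 := Nat.le_of_dvd (by omega) h3
    nlinarith

/-- the exponent `p s` -/
theorem exists_ps (p : ℕ) [hpf : Fact p.Prime] [CharP F p] (hF : Fintype.card F = q ^ 2) (hq : q ≠ 2) (hq5 : q ≠ 5) :
    ∃ s, 3 ≤ s ∧ Nat.gcd 3 (q + 1) * s = q + 1 ∧ ∀ n, n ∣ p * s → ∃ z : Cfsg.PSU 3 F q, orderOf z = n := by
  have hq2 := GUOrder.two_le hF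
  obtain ⟨s, hs0⟩ : Nat.gcd 3 (q + 1) ∣ q + 1 := Nat.gcd_dvd_right _ _
  have hd3 : Nat.gcd 3 (q + 1) ≤ 3 := Nat.gcd_le_left _ (by norm_num)
  have hd0 : 0 < Nat.gcd 3 (q + 1) := Nat.gcd_pos_of_pos_left _ (by norm_num)
  have hdiv : p * (q + 1) / Nat.gcd 3 (q + 1) = p * s := by
    nth_rewrite 1 [hs0]
    rw [show p * (Nat.gcd 3 (q + 1) * s) = p * s * Nat.gcd 3 (q + 1) by ring, Nat.mul_div_cancel _ hd0]
  refine ⟨s, ?_, hs0.symm, fun n hn => H127.PSUThreeEx.ex_two p hF n (by rw [hdiv]; exact hn)⟩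
  rcases (Nat.dvd_prime Nat.prime_three).1 (Nat.gcd_dvd_left 3 (q + 1)) with h1 | h1
  · rw [h1] at hs0
    omega
  · rw [h1] at hs0
    omega

/-- three orders: `q ≠ 5` -/
theorem orders (p : ℕ) [hpf : Fact p.Prime] [CharP F p] (hF : Fintype.card F = q ^ 2) (hq : q ≠ 2) (hq5 : q ≠ 5) :
    ∃ s : Finset ℕ, 3 ≤ s.card ∧ ∀ n ∈ s, p ∣ n ∧ ∃ z : Cfsg.PSU 3 F q, orderOf z = n := by
  obtain ⟨s, hs3, hs, hz⟩ := exists_ps p hF hq hq5
  have hpq : p ∣ q := by
    obtain ⟨k, hk, h5⟩ := FiniteField.card F p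
    rw [hF] at h5
    exact hpf.out.dvd_of_dvd_pow (h5 ▸ dvd_pow_self p k.pos.ne')
  by_cases h2 : p = 2
  · subst h2
    refine ⟨{2, 4, 2 * s}, ?_, ?_⟩
    · have hs4 : 2 * s ≠ 4 := by omega
      rw [Finset.card_insert_of_notMem, Finset.card_insert_of_notMem, Finset.card_singleton]
      · simpa using hs4.symm
      · simp only [Finset.mem_insert, Finset.mem_singleton]
        omega
    · intro n hn
      simp only [Finset.mem_insert, Finset.mem_singleton] at hn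
      rcases hn with rfl | rfl | rfl
      · exact ⟨dvd_rfl, hz _ (Dvd.intro _ rfl)⟩
      · exact ⟨by norm_num, exists_four hF⟩
      · exact ⟨Dvd.intro _ rfl, hz _ dvd_rfl⟩
  · -- `s` is even
    have hodd : ¬ 2 ∣ q := by
      intro h
      obtain ⟨k, hk, h5⟩ := FiniteField.card F p
      rw [hF] at h5
      have h6 : 2 ∣ p ^ (k : ℕ) := h5 ▸ Dvd.dvd.pow h (by norm_num)
      exact h2 ((Nat.prime_dvd_prime_iff_eq Nat.prime_two hpf.out).1 (Nat.prime_two.dvd_of_dvd_pow h6)).symm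
    have h2s : 2 ∣ s := by
      have h3 : 2 ∣ Nat.gcd 3 (q + 1) * s := by
        rw [hs]
        omega
      refine Nat.Coprime.dvd_of_dvd_mul_left ?_ h3
      rcases (Nat.dvd_prime Nat.prime_three).1 (Nat.gcd_dvd_left 3 (q + 1)) with h1 | h1 <;> rw [h1] <;> norm_num
    obtain ⟨r, rfl⟩ := h2s
    have hp0 := hpf.out.pos
    refine ⟨{p, p * 2, p * (2 * r)}, ?_, ?_⟩
    · rw [Finset.card_insert_of_notMem, Finset.card_insert_of_notMem, Finset.card_singleton]
      · simp only [Finset.mem_singleton]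
        intro h
        have := Nat.eq_of_mul_eq_mul_left hp0 h
        omega
      · simp only [Finset.mem_insert, Finset.mem_singleton]
        rintro (h | h)
        · omega
        · have : p * 1 = p * (2 * r) := by rw [mul_one]; exact h
          have := Nat.eq_of_mul_eq_mul_left hp0 this
          omega
    · intro n hn
      simp only [Finset.mem_insert, Finset.mem_singleton] at hn
      rcases hn with rfl | rfl | rfl
      · exact ⟨dvd_rfl, hz _ (Dvd.intro _ rfl)⟩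
      · exact ⟨Dvd.intro _ rfl, hz _ ⟨r, by ring⟩⟩
      · exact ⟨Dvd.intro _ rfl, hz _ dvd_rfl⟩

theorem row2_gen (hF : Fintype.card F = q ^ 2) (hq : q ≠ 2) (hq5 : q ≠ 5) : Row2 (Cfsg.PSU 3 F q) := by
  obtain ⟨p, hp⟩ := CharP.exists F
  have hpf : Fact p.Prime := ⟨CharP.char_is_prime F p⟩
  obtain ⟨s, hs, hs'⟩ := orders p hF hq hq5
  have := simple hF hq
  exact row2_of_lie_orders hpf.out (not_comm hF hq) (lieChar p hF hq) s hs' hs

/-- `q = 4` and `q ≥ 7` -/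
theorem two_gen (hF : Fintype.card F = q ^ 2) (hq : q = 4 ∨ 7 ≤ q) : Two (Cfsg.PSU 3 F q) := by
  obtain ⟨A, m, hA, he, hm, hd⟩ := Cfsg.Agent.H956.ZerosPSU3.exists_torus hF (by omega)
  rcases hq with rfl | h7
  · norm_num at hd
    have hm4 : m = 4 := by omega
    subst hm4
    have h1 := Cfsg.Agent.H674.TwelvePSU.twelve_le_psu F 3 4 hF le_rfl (by norm_num)
    exact two_of_ti hA he (by norm_num) hm h1 (by norm_num)
  · have h1 := (Cfsg.Agent.H674.SteinbergSU.sq_le_three hF 0).trans (card_classes_le hF (le_refl 3))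
    set d := Nat.gcd 3 (q + 1) with hd'
    set k := Nat.card (ConjClasses (Cfsg.PSU 3 F q)) with hk
    have hd0 : 0 < d := Nat.gcd_pos_of_pos_left _ (by norm_num)
    have h3 : d ≤ 3 := Nat.gcd_le_left _ (by norm_num)
    clear_value d k
    obtain ⟨t, rfl⟩ : ∃ t, q = t + 7 := ⟨q - 7, by omega⟩
    have h4 : (t + 7) ^ 2 = t ^ 2 + 14 * t + 49 := by ring
    rw [h4] at h1 hd
    have hm2 : 3 ≤ m := by
      interval_cases d <;> omega
    have hk8 : 3 + m + 2 ≤ k := by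
      interval_cases d <;> omega
    exact two_of_ti hA he hm2 hm hk.le hk8

end row

/-! ### `q = 3` and `q = 5` -/

def x33 : Matrix (Fin 3) (Fin 3) F9 := !![⟨0, 0⟩, ⟨1, 0⟩, ⟨0, 0⟩; ⟨0, 2⟩, ⟨0, 0⟩, ⟨0, 0⟩; ⟨0, 0⟩, ⟨0, 0⟩, ⟨0, 2⟩]
def p33 : Matrix (Fin 3) (Fin 3) F9 := !![⟨1, 0⟩, ⟨2, 0⟩, ⟨0, 0⟩; ⟨1, 1⟩, ⟨1, 1⟩, ⟨0, 0⟩; ⟨0, 0⟩, ⟨0, 0⟩, ⟨1, 0⟩]
def q33 : Matrix (Fin 3) (Fin 3) F9 := !![⟨2, 0⟩, ⟨1, 2⟩, ⟨0, 0⟩; ⟨1, 0⟩, ⟨1, 2⟩, ⟨0, 0⟩; ⟨0, 0⟩, ⟨0, 0⟩, ⟨1, 0⟩]
def d33 : Fin 3 → F9 := ![⟨1, 1⟩, ⟨2, 2⟩, ⟨0, 2⟩]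

def x35 : Matrix (Fin 3) (Fin 3) F25 := !![⟨0, 4⟩, ⟨4, 3⟩, ⟨0, 0⟩; ⟨4, 2⟩, ⟨0, 4⟩, ⟨0, 0⟩; ⟨0, 0⟩, ⟨0, 0⟩, ⟨4, 0⟩]
def p35 : Matrix (Fin 3) (Fin 3) F25 := !![⟨1, 0⟩, ⟨3, 0⟩, ⟨0, 0⟩; ⟨1, 1⟩, ⟨2, 2⟩, ⟨0, 0⟩; ⟨0, 0⟩, ⟨0, 0⟩, ⟨1, 0⟩]
def q35 : Matrix (Fin 3) (Fin 3) F25 := !![⟨3, 0⟩, ⟨2, 3⟩, ⟨0, 0⟩; ⟨1, 0⟩, ⟨1, 4⟩, ⟨0, 0⟩; ⟨0, 0⟩, ⟨0, 0⟩, ⟨1, 0⟩]
def d35 : Fin 3 → F25 := ![⟨0, 1⟩, ⟨0, 2⟩, ⟨4, 0⟩]

def u35 : Matrix (Fin 3) (Fin 3) F25 := !![⟨2, 0⟩, ⟨1, 4⟩, ⟨0, 1⟩; ⟨1, 1⟩, ⟨0, 0⟩, ⟨2, 1⟩; ⟨0, 1⟩, ⟨3, 1⟩, ⟨1, 0⟩]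
def r35 : Matrix (Fin 3) (Fin 3) F25 := !![⟨1, 2⟩, ⟨3, 1⟩, ⟨0, 0⟩; ⟨0, 3⟩, ⟨0, 4⟩, ⟨0, 1⟩; ⟨0, 0⟩, ⟨2, 3⟩, ⟨0, 0⟩]
def s35 : Matrix (Fin 3) (Fin 3) F25 := !![⟨2, 1⟩, ⟨0, 0⟩, ⟨4, 4⟩; ⟨0, 0⟩, ⟨0, 0⟩, ⟨2, 2⟩; ⟨4, 2⟩, ⟨0, 3⟩, ⟨0, 0⟩]

theorem c33 : good 3 x33 = true ∧ p33 * q33 = 1 ∧ q33 * p33 = 1 ∧ x33 * p33 = p33 * Matrix.diagonal d33 ∧
    (p33ᵀ * p33.map (fun x => x ^ 3)) 0 1 ≠ 0 ∧ x33.trace ≠ 0 ∧ isSc (x33 ^ 7) = false ∧
    (d33 0 ≠ d33 1 ∧ d33 0 ≠ d33 2 ∧ d33 1 ≠ d33 2) := by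
  decide +kernel

theorem c35 : good 5 x35 = true ∧ p35 * q35 = 1 ∧ q35 * p35 = 1 ∧ x35 * p35 = p35 * Matrix.diagonal d35 ∧
    (p35ᵀ * p35.map (fun x => x ^ 5)) 0 1 ≠ 0 ∧ x35.trace ≠ 0 ∧ isSc (x35 ^ 7) = false ∧
    (d35 0 ≠ d35 1 ∧ d35 0 ≠ d35 2 ∧ d35 1 ≠ d35 2) := by
  decide +kernel

theorem cu35 : good 5 u35 = true ∧ r35 * s35 = 1 ∧ s35 * r35 = 1 ∧
    u35 * r35 = r35 * !![1, 1, 0; 0, 1, 1; 0, 0, 1] ∧ u35 ^ 5 = 1 ∧ isSc u35 = false := by
  decide +kernel

/-- `St` and one character vanishing on `7A`, `7B` and an element with a centralizer of order `8` -/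
theorem two_small {F : Type} [Field F] [Fintype F] {q : ℕ} (hF : Fintype.card F = q ^ 2) (p : ℕ)
    [hpf : Fact p.Prime] [CharP F p] (hq : q = 3 ∨ q = 5) (hp7 : p ≠ 7) (m : Cfsg.SU 3 F q)
    (hc : Nat.card (Subgroup.centralizer ({pr m} : Set (Cfsg.PSU 3 F q))) ≤ 8)
    (h7 : ∀ c : F, cm m ^ 7 ≠ c • 1) (t : Finset (Cfsg.PSU 3 F q)) (ht : NonConj t)
    (htp : ∀ g ∈ t, p ∣ orderOf g) (ht3 : 3 ≤ t.card) : Two (Cfsg.PSU 3 F q) := by
  have hq2 : q ≠ 2 := by omega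
  obtain ⟨A, m', hA, he, hm, hd⟩ := Cfsg.Agent.H956.ZerosPSU3.exists_torus hF hq2
  have hm2 : m' = 2 := by
    rcases hq with rfl | rfl
    · norm_num at hd
      omega
    · norm_num at hd
      omega
  subst hm2
  have := simple hF hq2
  obtain ⟨θ, h1, -⟩ := Cfsg.Agent.H761.LieExt.lie_ext (p := p) (not_comm hF hq2) (lieChar p hF hq2)
  refine two_of_st_col hA he le_rfl hm (pr m) ?_ ((nv_le_card_centralizer (pr m)).trans hc)
    (Cfsg.Agent.H674.TwelvePSU.twelve_le_psu F 3 q hF le_rfl (fun h => hq2 h.2)) (by norm_num) (θ := θ) ?_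
    t ht ?_ ht3
  · intro a ha ha1 hconj
    have h2 : a ^ 7 = 1 := by
      have h3 := pow_card_eq_one' (x := (⟨a, ha⟩ : A))
      rw [hm] at h3
      exact congrArg Subtype.val h3
    obtain ⟨c, hc⟩ := isConj_iff.1 hconj
    have h3 : (pr m) ^ 7 = 1 := by
      have h4 : (c * pr m * c⁻¹) ^ 7 = 1 := by rw [hc, h2]
      rw [conj_pow] at h4
      calc (pr m) ^ 7 = c⁻¹ * (c * (pr m) ^ 7 * c⁻¹) * c := by group
        _ = 1 := by rw [h4]; group
    have h4 : pr (1 : Cfsg.SU 3 F q) = pr (m ^ 7) := by rw [map_one, map_pow, h3]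
    obtain ⟨c, hc⟩ := of_pr_eq hF h4
    rw [map_pow, map_one] at hc
    exact h7 c hc
  · rw [h1, hm]
    intro h
    have h2 : (7 : ℕ) ∣ p ^ (Nat.card (Cfsg.PSU 3 F q)).factorization p := h
    exact hp7 ((Nat.prime_dvd_prime_iff_eq (by norm_num) hpf.out).1
      ((by norm_num : Nat.Prime 7).dvd_of_dvd_pow h2)).symm
  · intro g hg
    refine Cfsg.Agent.H713.irr_zero_of_singular (p := p) ?_ (htp g hg)
    rw [h1, Nat.factorization_pow, Finsupp.smul_apply, hpf.out.factorization_self, smul_eq_mul, mul_one]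

theorem inj_of {K : Type} {d : Fin 3 → K} (h1 : d 0 ≠ d 1) (h2 : d 0 ≠ d 2) (h3 : d 1 ≠ d 2) :
    Function.Injective d := by
  intro i j hij
  fin_cases i <;> fin_cases j <;>
    first
      | rfl
      | exact absurd hij h1
      | exact absurd hij h2
      | exact absurd hij h3
      | exact absurd hij.symm h1
      | exact absurd hij.symm h2
      | exact absurd hij.symm h3

theorem not_sc {K : Type} [Field K] [DecidableEq K] {M : Matrix (Fin 3) (Fin 3) K} (h : isSc M = false) (c : K) :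
    M ≠ c • 1 := by
  intro h1
  rw [(isSc_iff M).2 ⟨c, h1⟩] at h
  exact absurd h (by simp)

theorem two_three : Two (Cfsg.PSU 3 F9 3) := by
  obtain ⟨hg, hPQ, hQP, hM, hH, htr, h7, hd1, hd2, hd3⟩ := c33
  have hp : Fact (Nat.Prime 3) := ⟨by norm_num⟩
  have hch : CharP F9 3 := charP_of_card_eq_prime_pow h9
  obtain ⟨m, hm⟩ := exists_of_good h9 hg
  obtain ⟨s, hs, hs'⟩ := orders 3 (F := F9) h9 (by norm_num) (by norm_num)
  obtain ⟨t, ht, htc, hto⟩ := exists_of_orders (G := Cfsg.PSU 3 F9 3) s fun n hn => (hs' n hn).2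
  have hc := card_cent_le h9 m p33 q33 hPQ hQP d33 (inj_of hd1 hd2 hd3) (by rw [hm]; exact hM) hH
    (by rw [hm]; exact htr)
  refine two_small h9 3 (Or.inl rfl) (by norm_num) m ?_ ?_ t ht (fun g hg => (hs' _ (hto g hg)).1) (by omega)
  · have h3 : Nat.gcd 3 (3 + 1) = 1 := by norm_num
    rw [h3, one_mul] at hc
    exact hc.trans (by norm_num)
  · rw [hm]
    exact not_sc h7

/-- three classes of elements of order divisible by `5` -/
theorem five : ∃ s : Finset (Cfsg.PSU 3 F25 5), AutNC s ∧ 3 ≤ s.card ∧ ∀ g ∈ s, 5 ∣ orderOf g := by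
  classical
  obtain ⟨hg, hPQ, hQP, hM, h5, hsc⟩ := cu35
  have hp : Fact (Nat.Prime 5) := ⟨by norm_num⟩
  have hch : CharP F25 5 := charP_of_card_eq_prime_pow h25
  obtain ⟨m, hm⟩ := exists_of_good h25 hg
  have h2 : (2 : F25) ≠ 0 := by
    intro h
    have h3 : ((2 : ℕ) : F25) = 0 := by exact_mod_cast h
    rw [CharP.cast_eq_zero_iff F25 5] at h3
    omega
  obtain ⟨w, hw⟩ := H127.PSUThreeEx.ex_two (F := F25) 5 h25 10 (by norm_num)
  have ht : orderOf (w ^ 2) = 5 := by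
    rw [orderOf_pow' w (by norm_num), hw]
    norm_num
  have hy : orderOf (w ^ 5) = 2 := by
    rw [orderOf_pow' w (by norm_num), hw]
    norm_num
  have hu : orderOf (pr m) = 5 := by
    refine orderOf_eq_prime ?_ ?_
    · rw [← map_pow]
      refine pr_eq_one_of (c := 1) ?_
      rw [map_pow, hm, h5, one_smul]
    · intro h
      have h4 : pr (1 : Cfsg.SU 3 F25 5) = pr m := by rw [map_one, h]
      obtain ⟨c, hc⟩ := of_pr_eq h25 h4
      rw [map_one, hm] at hc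
      exact not_sc hsc c hc
  obtain ⟨hnc, hcard⟩ := autNC_three ht hu hw (by norm_num) hy ((Commute.refl w).pow_pow 2 5)
    (not_commute h25 h2 m r35 s35 hPQ hQP (by rw [hm]; exact hM))
  refine ⟨_, hnc, hcard.ge, ?_⟩
  intro g hg
  simp only [Finset.mem_insert, Finset.mem_singleton] at hg
  rcases hg with rfl | rfl | rfl
  · rw [ht]
  · rw [hu]
  · rw [hw]; norm_num

theorem two_five : Two (Cfsg.PSU 3 F25 5) := by
  obtain ⟨hg, hPQ, hQP, hM, hH, htr, h7, hd1, hd2, hd3⟩ := c35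
  have hp : Fact (Nat.Prime 5) := ⟨by norm_num⟩
  have hch : CharP F25 5 := charP_of_card_eq_prime_pow h25
  obtain ⟨m, hm⟩ := exists_of_good h25 hg
  obtain ⟨t, ht, htc, hto⟩ := five
  have hc := card_cent_le h25 m p35 q35 hPQ hQP d35 (inj_of hd1 hd2 hd3) (by rw [hm]; exact hM) hH
    (by rw [hm]; exact htr)
  refine two_small h25 5 (Or.inr rfl) (by norm_num) m ?_ ?_ t ht.nonConj hto htc
  · have h3 : Nat.gcd 3 (5 + 1) = 3 := by norm_num
    rw [h3] at hc
    norm_num at hc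
    omega
  · rw [hm]
    exact not_sc h7

theorem row2_five : Row2 (Cfsg.PSU 3 F25 5) := by
  have hp : Fact (Nat.Prime 5) := ⟨by norm_num⟩
  have hch : CharP F25 5 := charP_of_card_eq_prime_pow h25
  have := simple (F := F25) h25 (by norm_num)
  obtain ⟨t, ht, htc, hto⟩ := five
  exact row2_of_lie (by norm_num : Nat.Prime 5) (not_comm h25 (by norm_num)) (lieChar 5 h25 (by norm_num)) t ht hto htc

/-- **task 1804** -/
theorem rowT_psu3 {F : Type} [Field F] [Fintype F] {q : ℕ} (hF : Fintype.card F = q ^ 2) (hq : q ≠ 2) :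
    RowT (Cfsg.PSU 3 F q) := by
  have hq2 := GUOrder.two_le hF
  have h6 : q ≠ 6 := by
    rintro rfl
    obtain ⟨p, hp⟩ := CharP.exists F
    obtain ⟨k, hpp, hk⟩ := FiniteField.card F p
    rw [hF] at hk
    have h3 : 2 = p := (Nat.prime_dvd_prime_iff_eq (by norm_num) hpp).1
      (Nat.Prime.dvd_of_dvd_pow (by norm_num) (hk ▸ (by norm_num : 2 ∣ 6 ^ 2)))
    have h4 : 3 = p := (Nat.prime_dvd_prime_iff_eq (by norm_num) hpp).1
      (Nat.Prime.dvd_of_dvd_pow (by norm_num) (hk ▸ (by norm_num : 3 ∣ 6 ^ 2)))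
    omega
  by_cases h5 : q = 5
  · subst h5
    have e := FieldTransfer.psuCongr 3 5 (FiniteField.ringEquivOfCardEq (hF.trans h25.symm))
    exact RowT.of_equiv e ⟨Or.inl two_five, row2_five⟩
  by_cases h3 : q = 3
  · subst h3
    have e := FieldTransfer.psuCongr 3 3 (FiniteField.ringEquivOfCardEq (hF.trans h9.symm))
    exact RowT.of_equiv e ⟨Or.inl two_three, row2_gen h9 (by norm_num) (by norm_num)⟩
  exact ⟨Or.inl (two_gen hF (by omega)), row2_gen hF hq h5⟩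

end Cfsg.Agent.H686.TZ.PSU3
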