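import Cfsg.Agent.H686.TZ.Tools3
import Cfsg.Agent.H681.ZerosPSL3
import Cfsg.Agent.S0249

/-!
# The row `PSL(3, q)` of S4897
-/

set_option autoImplicit false

namespace Cfsg.Agent.H686.TZ.PSL3

open Cfsg Cfsg.Agent.H504 Cfsg.Agent.H504.Zeros Cfsg.Agent.H504.TwoZ
open Cfsg.Agent.Characters.Core Cfsg.Agent.H681.ZerosPSL3 Matrix
open scoped MatrixGroups

section basic

variable {F : Type} [Field F]

theorem mk_eq_mk {a b : SL(3, F)}
    (h : (QuotientGroup.mk a : ProjectiveSpecialLinearGroup (Fin 3) F) = QuotientGroup.mk b) :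
    ∃ r : F, r ^ 3 = 1 ∧ (b : Matrix (Fin 3) (Fin 3) F) = r • (a : Matrix (Fin 3) (Fin 3) F) := by
  rw [QuotientGroup.eq, Matrix.SpecialLinearGroup.mem_center_iff] at h
  obtain ⟨r, hr, h⟩ := h
  rw [Fintype.card_fin] at hr
  refine ⟨r, hr, ?_⟩
  have h1 : (b : Matrix (Fin 3) (Fin 3) F) = a * ((a⁻¹ * b : SL(3, F)) : Matrix (Fin 3) (Fin 3) F) := by
    rw [← Matrix.SpecialLinearGroup.coe_mul, mul_inv_cancel_left]
  rw [h1, ← h, Matrix.scalar_apply, ← Matrix.smul_one_eq_diagonal, Matrix.mul_smul, Matrix.mul_one]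

theorem mk_eq_one {a : SL(3, F)} {c : F} (h : (a : Matrix (Fin 3) (Fin 3) F) = c • 1) :
    (QuotientGroup.mk a : ProjectiveSpecialLinearGroup (Fin 3) F) = 1 := by
  rw [QuotientGroup.eq_one_iff, Matrix.SpecialLinearGroup.mem_center_iff]
  refine ⟨c, ?_, ?_⟩
  · have h2 := a.2
    rw [h, Matrix.det_smul, Matrix.det_one, mul_one] at h2
    exact h2
  · rw [h, Matrix.scalar_apply, Matrix.smul_one_eq_diagonal]

/-- regular unipotent element -/
def U : SL(3, F) := ⟨!![1, 1, 0; 0, 1, 1; 0, 0, 1], by simp [Matrix.det_fin_three]⟩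

theorem scalar_of_comm (h2 : (2 : F) ≠ 0) (g : Matrix (Fin 3) (Fin 3) F) (hdet : g.det ≠ 0) {r s : F}
    (h : g * !![1, 1, 0; 0, 1, 1; 0, 0, 1] = r • (!![1, 1, 0; 0, 1, 1; 0, 0, 1] * g)) (hs : g * g = s • 1) :
    ∃ c : F, g = c • 1 := by
  have e := fun i j => congrFun (congrFun h i) j
  have e20 := e 2 0
  have e21 := e 2 1
  have e22 := e 2 2
  have e10 := e 1 0
  have e11 := e 1 1
  have e12 := e 1 2
  have e00 := e 0 0
  have e01 := e 0 1
  have e02 := e 0 2
  simp [Matrix.mul_apply, Fin.sum_univ_three, Matrix.vecMul, dotProduct] at e20 e21 e22 e10 e11 e12 e00 e01 e02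
  have hr : r = 1 := by
    by_contra hr
    have hr' : 1 - r ≠ 0 := sub_ne_zero.2 (Ne.symm hr)
    have a20 : g 2 0 = 0 := by
      have : (1 - r) * g 2 0 = 0 := by linear_combination e20
      exact (mul_eq_zero.1 this).resolve_left hr'
    have a21 : g 2 1 = 0 := by
      have : (1 - r) * g 2 1 = 0 := by linear_combination e21 - a20
      exact (mul_eq_zero.1 this).resolve_left hr'
    have a22 : g 2 2 = 0 := by
      have : (1 - r) * g 2 2 = 0 := by linear_combination e22 - a21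
      exact (mul_eq_zero.1 this).resolve_left hr'
    apply hdet
    rw [Matrix.det_fin_three, a20, a21, a22]
    ring
  subst hr
  have a20 : g 2 0 = 0 := by linear_combination e21
  have a21 : g 2 1 = 0 := by linear_combination e22
  have a10 : g 1 0 = 0 := by linear_combination e11 + a21
  have a11 : g 1 1 = g 2 2 := by linear_combination e12
  have a00 : g 0 0 = g 1 1 := by linear_combination e01
  have a01 : g 0 1 = g 1 2 := by linear_combination e02
  have hd : g 2 2 ≠ 0 := by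
    intro h0
    apply hdet
    rw [Matrix.det_fin_three, a20, a21, h0]
    ring
  have f := fun i j => congrFun (congrFun hs i) j
  have f01 := f 0 1
  have f02 := f 0 2
  simp [Matrix.mul_apply, Fin.sum_univ_three, Matrix.vecMul, dotProduct] at f01 f02
  have b01 : g 0 1 = 0 := by
    have : (2 * g 2 2) * g 0 1 = 0 := by
      linear_combination f01 - (g 0 1) * a00 - 2 * (g 0 1) * a11 - (g 0 2) * a21
    exact (mul_eq_zero.1 this).resolve_left (mul_ne_zero h2 hd)
  have b12 : g 1 2 = 0 := by rw [← a01, b01]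
  have b02 : g 0 2 = 0 := by
    have : (2 * g 2 2) * g 0 2 = 0 := by
      linear_combination f02 - (g 0 2) * a00 - (g 0 2) * a11 - (g 1 2) * b01
    exact (mul_eq_zero.1 this).resolve_left (mul_ne_zero h2 hd)
  refine ⟨g 2 2, ?_⟩
  ext i j
  fin_cases i <;> fin_cases j <;> simp [a20, a21, a10, a11, a00, b01, b12, b02]

/-- in odd characteristic a regular unipotent element does not commute with an involution -/
theorem not_commute (h2 : (2 : F) ≠ 0) (y : ProjectiveSpecialLinearGroup (Fin 3) F) (hy : orderOf y = 2) :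
    ¬ Commute (QuotientGroup.mk U : ProjectiveSpecialLinearGroup (Fin 3) F) y := by
  intro hc
  obtain ⟨g, rfl⟩ := QuotientGroup.mk_surjective y
  have h1 : (QuotientGroup.mk (U * g) : ProjectiveSpecialLinearGroup (Fin 3) F) = QuotientGroup.mk (g * U) := hc
  obtain ⟨r, -, hr⟩ := mk_eq_mk h1
  have h3 : (QuotientGroup.mk (1 : SL(3, F)) : ProjectiveSpecialLinearGroup (Fin 3) F) = QuotientGroup.mk (g * g) := by
    have := pow_orderOf_eq_one (QuotientGroup.mk g : ProjectiveSpecialLinearGroup (Fin 3) F)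
    rw [hy, pow_two] at this
    exact this.symm
  obtain ⟨s, -, hs⟩ := mk_eq_mk h3
  obtain ⟨c, hc⟩ := scalar_of_comm h2 (g : Matrix (Fin 3) (Fin 3) F) (by rw [g.2]; exact one_ne_zero) (r := r)
    (s := s) hr (by rw [← Matrix.SpecialLinearGroup.coe_mul, hs]; rfl)
  rw [mk_eq_one hc, orderOf_one] at hy
  omega

theorem U_pow (n : ℕ) : ∃ c : F, ((U ^ n : SL(3, F)) : Matrix (Fin 3) (Fin 3) F) = !![1, (n : F), c; 0, 1, (n : F); 0, 0, 1] ∧
    2 * c = n * (n - 1) := by
  induction n with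
  | zero =>
    refine ⟨0, ?_, by simp⟩
    rw [pow_zero, Matrix.SpecialLinearGroup.coe_one]
    ext i j
    fin_cases i <;> fin_cases j <;> simp
  | succ n ih =>
    obtain ⟨c, h, hc⟩ := ih
    refine ⟨c + n, ?_, by push_cast; linear_combination hc⟩
    rw [pow_succ, Matrix.SpecialLinearGroup.coe_mul, h]
    show _ * !![1, 1, 0; 0, 1, 1; 0, 0, 1] = _
    ext i j
    fin_cases i <;> fin_cases j <;> simp [Matrix.mul_apply, Fin.sum_univ_three] <;> ring

theorem U_not_scalar (n : ℕ) (hn : (n : F) ≠ 0) :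
    (QuotientGroup.mk U : ProjectiveSpecialLinearGroup (Fin 3) F) ^ n ≠ 1 := by
  intro h
  have h1 : (QuotientGroup.mk (1 : SL(3, F)) : ProjectiveSpecialLinearGroup (Fin 3) F) = QuotientGroup.mk (U ^ n) :=
    h.symm
  obtain ⟨r, -, hr⟩ := mk_eq_mk h1
  obtain ⟨c, hc, -⟩ := U_pow (F := F) n
  rw [hc] at hr
  have := congrFun (congrFun hr 0) 1
  simp at this
  exact hn this

/-- the order of the regular unipotent element for odd `p` -/
theorem orderOf_U {p : ℕ} [hp : Fact p.Prime] [CharP F p] (h2 : p ≠ 2) :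
    orderOf (QuotientGroup.mk U : ProjectiveSpecialLinearGroup (Fin 3) F) = p := by
  refine orderOf_eq_prime ?_ ?_
  · obtain ⟨c, hc, hc2⟩ := U_pow (F := F) p
    have h20 : (2 : F) ≠ 0 := by
      intro h
      have h3 : ((2 : ℕ) : F) = 0 := by exact_mod_cast h
      rw [CharP.cast_eq_zero_iff F p] at h3
      exact h2 ((Nat.prime_dvd_prime_iff_eq hp.out Nat.prime_two).1 h3)
    rw [CharP.cast_eq_zero, zero_mul] at hc2
    have hc0 : c = 0 := (mul_eq_zero.1 hc2).resolve_left h20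
    rw [← QuotientGroup.mk_pow]
    refine mk_eq_one (c := 1) ?_
    rw [hc, hc0, CharP.cast_eq_zero]
    ext i j
    fin_cases i <;> fin_cases j <;> simp
  · intro h
    have := U_not_scalar (F := F) 1 (by simp)
    rw [pow_one] at this
    exact this h

/-- in characteristic two it has order four -/
theorem orderOf_U_two [CharP F 2] : orderOf (QuotientGroup.mk U : ProjectiveSpecialLinearGroup (Fin 3) F) = 4 := by
  have h20 : (2 : F) = 0 := by
    have := CharP.cast_eq_zero F 2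
    exact_mod_cast this
  have : Fact (Nat.Prime 2) := ⟨Nat.prime_two⟩
  have hU2 : ((U ^ 2 : SL(3, F)) : Matrix (Fin 3) (Fin 3) F) = !![1, 0, 1; 0, 1, 0; 0, 0, 1] := by
    rw [pow_two, Matrix.SpecialLinearGroup.coe_mul]
    show (!![1, 1, 0; 0, 1, 1; 0, 0, 1] : Matrix (Fin 3) (Fin 3) F) * !![1, 1, 0; 0, 1, 1; 0, 0, 1] = _
    ext i j
    fin_cases i <;> fin_cases j <;> simp [Matrix.mul_apply, Fin.sum_univ_three] <;> ring_nf <;> simp [h20]
  show orderOf _ = 2 ^ (1 + 1)
  refine orderOf_eq_prime_pow ?_ ?_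
  · rw [pow_one, ← QuotientGroup.mk_pow]
    intro h
    have h1 : (QuotientGroup.mk (1 : SL(3, F)) : ProjectiveSpecialLinearGroup (Fin 3) F) = QuotientGroup.mk (U ^ 2) :=
      h.symm
    obtain ⟨r, -, hr⟩ := mk_eq_mk h1
    rw [hU2] at hr
    have := congrFun (congrFun hr 0) 2
    simp at this
  · rw [← QuotientGroup.mk_pow]
    refine mk_eq_one (c := 1) ?_
    rw [show (2 : ℕ) ^ (1 + 1) = 2 * 2 by norm_num, pow_mul, pow_two (U ^ 2), Matrix.SpecialLinearGroup.coe_mul, hU2]
    ext i j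
    fin_cases i <;> fin_cases j <;> simp [Matrix.mul_apply, Fin.sum_univ_three] <;> ring_nf <;> simp [h20]

/-- `p`-singular element of order `p s` in characteristic `p` -/
def W (a : Fˣ) : SL(3, F) := ⟨!![(a : F), 1, 0; 0, a, 0; 0, 0, ((a⁻¹ : Fˣ) : F) ^ 2], by
  simp [Matrix.det_fin_three]; field_simp⟩

theorem W_pow (a : Fˣ) (n : ℕ) : ((W a ^ n : SL(3, F)) : Matrix (Fin 3) (Fin 3) F) =
    !![(a : F) ^ n, n * a ^ n * ((a⁻¹ : Fˣ) : F), 0; 0, (a : F) ^ n, 0; 0, 0, ((a⁻¹ : Fˣ) : F) ^ (2 * n)] := by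
  induction n with
  | zero =>
    rw [pow_zero, Matrix.SpecialLinearGroup.coe_one]
    ext i j
    fin_cases i <;> fin_cases j <;> simp
  | succ n ih =>
    rw [pow_succ, Matrix.SpecialLinearGroup.coe_mul, ih]
    show _ * !![(a : F), 1, 0; 0, a, 0; 0, 0, ((a⁻¹ : Fˣ) : F) ^ 2] = _
    ext i j
    fin_cases i <;> fin_cases j <;> simp [Matrix.mul_apply, Fin.sum_univ_three] <;> field_simp <;> ring

theorem of_W_pow (a : Fˣ) {n : ℕ} (h : (QuotientGroup.mk (W a) : ProjectiveSpecialLinearGroup (Fin 3) F) ^ n = 1) :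
    (n : F) = 0 ∧ a ^ (3 * n) = 1 := by
  have h1 : (QuotientGroup.mk (1 : SL(3, F)) : ProjectiveSpecialLinearGroup (Fin 3) F) = QuotientGroup.mk (W a ^ n) :=
    h.symm
  obtain ⟨r, -, hr⟩ := mk_eq_mk h1
  rw [W_pow] at hr
  have e01 := congrFun (congrFun hr 0) 1
  have e00 := congrFun (congrFun hr 0) 0
  have e22 := congrFun (congrFun hr 2) 2
  simp at e01 e00 e22
  refine ⟨e01, ?_⟩
  apply Units.ext
  rw [← e00] at e22
  rw [Units.val_pow_eq_pow_val, Units.val_one, show 3 * n = 2 * n + n by ring, pow_add, ← e22]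
  rw [← mul_inv_cancel₀ (pow_ne_zero (2 * n) a.ne_zero)]

/-- the involution -/
def V : SL(3, F) := ⟨!![-1, 0, 0; 0, -1, 0; 0, 0, 1], by simp [Matrix.det_fin_three]⟩

theorem orderOf_V (h2 : (2 : F) ≠ 0) :
    orderOf (QuotientGroup.mk V : ProjectiveSpecialLinearGroup (Fin 3) F) = 2 := by
  have : Fact (Nat.Prime 2) := ⟨Nat.prime_two⟩
  refine orderOf_eq_prime ?_ ?_
  · rw [← QuotientGroup.mk_pow]
    refine mk_eq_one (c := 1) ?_
    rw [pow_two, Matrix.SpecialLinearGroup.coe_mul]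
    show (!![-1, 0, 0; 0, -1, 0; 0, 0, 1] : Matrix (Fin 3) (Fin 3) F) * !![-1, 0, 0; 0, -1, 0; 0, 0, 1] = _
    ext i j
    fin_cases i <;> fin_cases j <;> simp [Matrix.mul_apply, Fin.sum_univ_three]
  · intro h
    have h1 : (QuotientGroup.mk (1 : SL(3, F)) : ProjectiveSpecialLinearGroup (Fin 3) F) = QuotientGroup.mk V :=
      h.symm
    obtain ⟨r, -, hr⟩ := mk_eq_mk h1
    have e00 : (-1 : F) = r * 1 := congrFun (congrFun hr 0) 0
    have e22 : (1 : F) = r * 1 := congrFun (congrFun hr 2) 2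
    apply h2
    linear_combination e22 - e00

/-- the order of a transvection -/
theorem orderOf_W_one {p : ℕ} [hp : Fact p.Prime] [CharP F p] :
    orderOf (QuotientGroup.mk (W 1) : ProjectiveSpecialLinearGroup (Fin 3) F) = p := by
  refine orderOf_eq_prime ?_ ?_
  · rw [← QuotientGroup.mk_pow]
    refine mk_eq_one (c := 1) ?_
    rw [W_pow]
    ext i j
    fin_cases i <;> fin_cases j <;> simp
  · intro h
    have h1 : (QuotientGroup.mk (W 1) : ProjectiveSpecialLinearGroup (Fin 3) F) ^ 1 = 1 := by rw [pow_one]; exact h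
    have := (of_W_pow 1 h1).1
    rw [Nat.cast_one] at this
    exact one_ne_zero this

theorem commute_WV : Commute (QuotientGroup.mk (W 1) : ProjectiveSpecialLinearGroup (Fin 3) F) (QuotientGroup.mk V) := by
  show (QuotientGroup.mk (W 1 * V) : ProjectiveSpecialLinearGroup (Fin 3) F) = QuotientGroup.mk (V * W 1)
  congr 1
  apply Subtype.ext
  show (!![((1 : Fˣ) : F), 1, 0; 0, ((1 : Fˣ) : F), 0; 0, 0, (((1 : Fˣ)⁻¹ : Fˣ) : F) ^ 2] : Matrix (Fin 3) (Fin 3) F) *
    !![-1, 0, 0; 0, -1, 0; 0, 0, 1] = !![-1, 0, 0; 0, -1, 0; 0, 0, 1] *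
    !![((1 : Fˣ) : F), 1, 0; 0, ((1 : Fˣ) : F), 0; 0, 0, (((1 : Fˣ)⁻¹ : Fˣ) : F) ^ 2]
  ext i j
  fin_cases i <;> fin_cases j <;> simp [Matrix.mul_apply, Fin.sum_univ_three, Matrix.vecMul, dotProduct]

theorem not_comm : ¬ IsMulCommutative (ProjectiveSpecialLinearGroup (Fin 3) F) := by
  intro h
  let a : SL(2, F) := ⟨!![1, 1; 0, 1], by simp [Matrix.det_fin_two]⟩
  let b : SL(2, F) := ⟨!![1, 0; 1, 1], by simp [Matrix.det_fin_two]⟩
  have h1 : emP F (a * b) = emP F (b * a) := by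
    rw [map_mul, map_mul]
    exact h.is_comm.comm _ _
  have h2 := congrArg (fun g : SL(2, F) => (g : Matrix (Fin 2) (Fin 2) F)) (emP_injective F h1)
  have h3 : (!![1, 1; 0, 1] : Matrix (Fin 2) (Fin 2) F) * !![1, 0; 1, 1] = !![1, 0; 1, 1] * !![1, 1; 0, 1] := h2
  have h4 := congrFun (congrFun h3 0) 0
  simp [Matrix.mul_apply, Fin.sum_univ_two] at h4

end basic

section row

variable {F : Type} [Field F] [Fintype F]

theorem lieChar (p : ℕ) [CharP F p] : IsLieTypeChar p (ProjectiveSpecialLinearGroup (Fin 3) F) :=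
  Or.inl ⟨F, inferInstance, inferInstance, inferInstance, 3, by norm_num, by norm_num, ⟨MulEquiv.refl _⟩⟩

theorem two_ne_zero' {p : ℕ} [hp : Fact p.Prime] [CharP F p] (h2 : p ≠ 2) : (2 : F) ≠ 0 := by
  intro h
  have h3 : ((2 : ℕ) : F) = 0 := by exact_mod_cast h
  rw [CharP.cast_eq_zero_iff F p] at h3
  exact h2 ((Nat.prime_dvd_prime_iff_eq hp.out Nat.prime_two).1 h3)

/-- odd characteristic -/
theorem row2_odd {p : ℕ} [hp : Fact p.Prime] [CharP F p] (hp2 : p ≠ 2) :
    Row2 (ProjectiveSpecialLinearGroup (Fin 3) F) := by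
  classical
  have hs : IsSimpleGroup (ProjectiveSpecialLinearGroup (Fin 3) F) := Cfsg.Agent.S0249.result 3 le_rfl
  have h2 := two_ne_zero' (F := F) hp2
  have ht := orderOf_W_one (F := F) (p := p)
  have hu := orderOf_U (F := F) hp2
  have hy := orderOf_V (F := F) h2
  have hcop : (orderOf (QuotientGroup.mk (W 1) : ProjectiveSpecialLinearGroup (Fin 3) F)).Coprime
      (orderOf (QuotientGroup.mk V : ProjectiveSpecialLinearGroup (Fin 3) F)) := by
    rw [ht, hy]
    exact (Nat.coprime_primes hp.out Nat.prime_two).2 hp2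
  have hw := commute_WV.orderOf_mul_eq_mul_orderOf_of_coprime hcop
  rw [ht, hy] at hw
  obtain ⟨hnc, hc⟩ := autNC_three ht hu hw (by have := hp.out.pos; omega) hy commute_WV (not_commute h2)
  refine row2_of_lie hp.out not_comm (lieChar p) _ hnc ?_ hc.ge
  intro g hg
  simp only [Finset.mem_insert, Finset.mem_singleton] at hg
  rcases hg with rfl | rfl | rfl
  · rw [ht]
  · rw [hu]
  · rw [hw]
    exact Dvd.intro _ rfl

/-- even characteristic, `q ≥ 8` -/
theorem row2_even [CharP F 2] (h8 : 8 ≤ Fintype.card F) :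
    Row2 (ProjectiveSpecialLinearGroup (Fin 3) F) := by
  classical
  have : Fact (Nat.Prime 2) := ⟨Nat.prime_two⟩
  have hs : IsSimpleGroup (ProjectiveSpecialLinearGroup (Fin 3) F) := Cfsg.Agent.S0249.result 3 le_rfl
  obtain ⟨a, ha⟩ := IsCyclic.exists_ofOrder_eq_natCard (α := Fˣ)
  rw [Nat.card_units, Nat.card_eq_fintype_card] at ha
  set n := orderOf (QuotientGroup.mk (W a) : ProjectiveSpecialLinearGroup (Fin 3) F) with hn
  obtain ⟨h1, h2⟩ := of_W_pow a (pow_orderOf_eq_one _)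
  rw [← hn] at h1 h2
  rw [CharP.cast_eq_zero_iff F 2] at h1
  have h3 : Fintype.card F - 1 ∣ 3 * n := by
    rw [← ha]
    exact orderOf_dvd_of_pow_eq_one h2
  have hcop : (Fintype.card F - 1).Coprime 2 := by
    obtain ⟨k, hk, h5⟩ := FiniteField.card F 2
    have h6 : 2 ∣ Fintype.card F := by
      rw [h5]
      exact dvd_pow_self 2 k.pos.ne'
    rw [Nat.coprime_comm, Nat.coprime_two_left, ← Nat.not_even_iff_odd, Nat.even_iff]
    omega
  have hne : ∀ j : ℕ, n = 2 ^ j → False := by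
    intro j hj
    rw [hj] at h3
    have h4 := (Nat.Coprime.pow_right j hcop).dvd_of_dvd_mul_right h3
    have := Nat.le_of_dvd (by norm_num) h4
    omega
  refine row2_of_lie_orders Nat.prime_two not_comm (lieChar 2) {2, 4, n} ?_ ?_
  · intro m hm
    simp only [Finset.mem_insert, Finset.mem_singleton] at hm
    rcases hm with rfl | rfl | rfl
    · exact ⟨dvd_rfl, _, orderOf_W_one⟩
    · exact ⟨by norm_num, _, orderOf_U_two⟩
    · exact ⟨h1, _, hn.symm⟩
  · have e1 : n ≠ 2 := fun h => hne 1 (by rw [h]; norm_num)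
    have e2 : n ≠ 4 := fun h => hne 2 (by rw [h]; norm_num)
    rw [Finset.card_insert_of_notMem, Finset.card_insert_of_notMem, Finset.card_singleton]
    · simpa using e2.symm
    · simpa using e1.symm

/-- general `q` -/
theorem two_gen {t : ℕ} (ht : Fintype.card F = t + 1) (h4 : 4 ≤ t)
    (h6 : t ≠ 6) : Two (ProjectiveSpecialLinearGroup (Fin 3) F) := by
  classical
  obtain ⟨A, hA, hcard⟩ := exists_cc ht
  have hn := hn_of ht hcard
  set a := Nat.card A with ha
  set g := Nat.gcd 3 t with hg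
  have hg0 : 0 < g := Nat.gcd_pos_of_pos_left _ (by norm_num)
  have hg3 : g = 1 ∨ g = 3 := (Nat.dvd_prime Nat.prime_three).1 (Nat.gcd_dvd_left 3 t)
  obtain ⟨m, hm, hm9⟩ : ∃ m, a = 3 * m + 1 ∧ 9 ≤ m := by
    rcases hg3 with h | h
    · rw [h, mul_one] at hcard
      have h3 : ¬ 3 ∣ t := by
        intro h3
        have := Nat.gcd_eq_left h3
        omega
      have h5 : t % 3 = 1 ∨ t % 3 = 2 := by omega
      rcases h5 with h5 | h5
      · obtain ⟨u, hu⟩ : ∃ u, t = 3 * u + 1 := ⟨t / 3, by omega⟩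
        refine ⟨(t + 1) * (u + 1), ?_, ?_⟩
        · rw [hcard, hu]; ring
        · have : 1 ≤ u := by omega
          nlinarith
      · obtain ⟨u, hu⟩ : ∃ u, t = 3 * u + 2 := ⟨t / 3, by omega⟩
        refine ⟨(u + 1) * (t + 2), ?_, ?_⟩
        · rw [hcard, hu]; ring
        · have : 1 ≤ u := by omega
          nlinarith
    · obtain ⟨u, hu⟩ : 3 ∣ t := h ▸ Nat.gcd_dvd_right 3 t
      refine ⟨u ^ 2 + u, ?_, ?_⟩
      · have : a * 3 = 3 * (3 * (u ^ 2 + u) + 1) := by
          rw [← h, hcard, hu, h]; ring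
        omega
      · have : 3 ≤ u := by omega
        nlinarith
  have hmod : ((t + 1) ^ 3 * (t ^ 2 * (t + 2))) % a = 3 := by
    obtain ⟨r, rfl⟩ : ∃ r, t = r + 1 := ⟨t - 1, by omega⟩
    have : (r + 1 + 1) ^ 3 * ((r + 1) ^ 2 * (r + 1 + 2)) =
        3 + a * (g * ((r + 1) * ((r + 1) ^ 2 * (r + 1 + 2)) + r)) := by
      have e : a * (g * ((r + 1) * ((r + 1) ^ 2 * (r + 1 + 2)) + r)) =
        (a * g) * ((r + 1) * ((r + 1) ^ 2 * (r + 1 + 2)) + r) := by ring
      rw [e, hcard]
      ring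
    rw [this, Nat.add_mul_mod_self_left, Nat.mod_eq_of_lt (by omega)]
  have he : ZeroTI.eIdx A = 3 := by
    have h1 := eIdx_eq_mod hA (by omega) hn
    rw [h1, ← ha, hmod]
  have hodd : ¬ 2 ∣ a := by
    intro h2
    have h7 : 2 ∣ t ^ 2 + 3 * t + 3 := by
      rw [← hcard]; exact Dvd.dvd.mul_right h2 g
    have h8 : t ^ 2 + 3 * t + 3 = 2 * ((t ^ 2 + 3 * t) / 2 + 1) + 1 := by
      have : (t ^ 2 + 3 * t) % 2 = 0 := by
        have : t ^ 2 + 3 * t = t * (t + 3) := by ring
        rw [this]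
        rcases Nat.even_or_odd t with h | h
        · exact Nat.even_iff.1 (h.mul_right _)
        · exact Nat.even_iff.1 ((h.add_odd (by decide)).mul_left _)
      omega
    omega
  -- the fifth order
  obtain ⟨s, hs, hsa, hs1, hs2, hst, hst2⟩ : ∃ s : ℕ, (∃ g : ProjectiveSpecialLinearGroup (Fin 3) F, orderOf g = s) ∧
      ¬ s ∣ a ∧ s ≠ 1 ∧ s ≠ 2 ∧ s ≠ t ∧ s ≠ t + 2 := by
    obtain ⟨p, hp⟩ := CharP.exists F
    have : Fact p.Prime := ⟨CharP.char_is_prime F p⟩
    have hpp := this.out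
    have hpt : p ∣ t + 1 := by
      obtain ⟨k, hk, h5⟩ := FiniteField.card F p
      rw [← ht, h5]
      exact dvd_pow_self p k.pos.ne'
    by_cases h2 : p = 2
    · subst h2
      refine ⟨4, ⟨_, orderOf_U_two⟩, fun h => hodd ((by norm_num : 2 ∣ 4).trans h), by norm_num, by norm_num, ?_, ?_⟩
      · rintro rfl
        omega
      · omega
    · refine ⟨p, ⟨_, orderOf_W_one⟩, ?_, hpp.one_lt.ne', h2, ?_, ?_⟩
      · intro h
        have h7 : p ∣ t ^ 2 + 3 * t + 3 := by
          rw [← hcard]; exact Dvd.dvd.mul_right h g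
        have h8 : t ^ 2 + 3 * t + 3 = (t + 1) * (t + 2) + 1 := by ring
        rw [h8] at h7
        have h9 := (Nat.dvd_add_right (Dvd.dvd.mul_right hpt (t + 2))).1 h7
        exact hpp.one_lt.ne' (Nat.dvd_one.1 h9)
      · rintro rfl
        have h9 := (Nat.dvd_add_right (dvd_refl p)).1 hpt
        exact hpp.one_lt.ne' (Nat.dvd_one.1 h9)
      · intro h
        have := Nat.le_of_dvd (by omega) hpt
        omega
  refine two_of_ti_orders hA he (m := m) (by omega) (by rw [← ha, hm])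
    {1, 2, t, t + 2, s} ?_ ?_ ?_
  · intro k hk
    simp only [Finset.mem_insert, Finset.mem_singleton] at hk
    rcases hk with rfl | rfl | rfl | rfl | rfl
    · exact ⟨1, orderOf_one⟩
    · have : Fact (Nat.Prime 2) := ⟨Nat.prime_two⟩
      refine exists_prime_orderOf_dvd_card' 2 ?_
      rw [hn]
      apply Dvd.dvd.mul_left
      rcases Nat.even_or_odd t with h | h
      · exact Dvd.dvd.mul_left (Dvd.dvd.mul_right (Dvd.dvd.pow h.two_dvd (by norm_num)) _) _
      · exact Dvd.dvd.mul_right (Dvd.dvd.pow (h.add_odd (by decide)).two_dvd (by norm_num)) _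
    · obtain ⟨x, hx⟩ := IsCyclic.exists_ofOrder_eq_natCard (α := Fˣ)
      rw [Nat.card_units, Nat.card_eq_fintype_card, ht, Nat.add_sub_cancel] at hx
      refine ⟨emP F (Cfsg.Agent.Walter.MetaPSL.diagHom F x), ?_⟩
      rw [orderOf_emP, ← hx]
      refine orderOf_injective (Cfsg.Agent.Walter.MetaPSL.diagHom F) ?_ x
      intro y z hyz
      apply Units.ext
      exact congrArg (fun g : SL(2, F) => (g : Matrix (Fin 2) (Fin 2) F) 0 0) hyz
    · obtain ⟨x, -, hx, -⟩ := Cfsg.Agent.ClassicalGeometry.NonsplitTorus.exists_torus_TI F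
      exact ⟨emP F x, by rw [orderOf_emP, hx, ht]⟩
    · exact hs
  · intro k hk
    simp only [Finset.mem_insert, Finset.mem_singleton] at hk
    rcases hk with rfl | rfl | rfl | rfl | rfl
    · exact Or.inl rfl
    · exact Or.inr hodd
    · right
      intro h
      have h1 : k ∣ k ^ 2 + 3 * k + 3 := by
        rw [← hcard]; exact Dvd.dvd.mul_right h g
      have h2 : k ∣ 3 := by
        have : k ∣ k ^ 2 + 3 * k := ⟨k + 3, by ring⟩
        exact (Nat.dvd_add_right this).1 h1
      have := Nat.le_of_dvd (by norm_num) h2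
      omega
    · right
      intro h
      have h1 : t + 2 ∣ t ^ 2 + 3 * t + 3 := by
        rw [← hcard]; exact Dvd.dvd.mul_right h g
      have h2 : t + 2 ∣ 1 := by
        have h3 : t + 2 ∣ (t + 2) * (t + 1) := ⟨t + 1, rfl⟩
        have h4 : t ^ 2 + 3 * t + 3 = (t + 2) * (t + 1) + 1 := by ring
        rw [h4] at h1
        exact (Nat.dvd_add_right h3).1 h1
      have := Nat.le_of_dvd (by norm_num) h2
      omega
    · exact Or.inr hsa
  · have hc : ({1, 2, t, t + 2, s} : Finset ℕ).card = 5 := by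
      rw [Finset.card_insert_of_notMem, Finset.card_insert_of_notMem, Finset.card_insert_of_notMem,
        Finset.card_insert_of_notMem, Finset.card_singleton]
      all_goals simp only [Finset.mem_insert, Finset.mem_singleton]; omega
    rw [hc]

theorem two_three (h : Fintype.card F = 3) : Two (ProjectiveSpecialLinearGroup (Fin 3) F) := by
  obtain ⟨A, hA, hcard⟩ := exists_cc (t := 2) h
  have hn := hn_of (t := 2) h hcard
  have ha : Nat.card A = 13 := by
    norm_num at hcard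
    exact hcard
  have he := eIdx_eq_mod hA (by omega) hn
  rw [ha] at he
  exact two_of_ti hA (e := 3) he (m := 4) (k := 12) (by norm_num) ha
    (Cfsg.Agent.H93.Classical.twelve_le_psl 3 le_rfl (by omega) (by omega)) (by norm_num)

theorem two_seven (h : Fintype.card F = 7) : Two (ProjectiveSpecialLinearGroup (Fin 3) F) := by
  obtain ⟨A, hA, hcard⟩ := exists_cc (t := 6) h
  have hn := hn_of (t := 6) h hcard
  have ha : Nat.card A = 19 := by
    norm_num at hcard
    omega
  have he := eIdx_eq_mod hA (by omega) hn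
  rw [ha] at he
  exact two_of_ti hA (e := 3) he (m := 6) (k := 12) (by norm_num) ha
    (Cfsg.Agent.H93.Classical.twelve_le_psl 3 le_rfl (by omega) (by omega)) (by norm_num)

end row

end Cfsg.Agent.H686.TZ.PSL3
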