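import Cfsg.Agent.H504.TwoRows

/-!
# Tools for the rows of S4897 in rank one and two

* `exists_of_ti_col` : one character which vanishes on a CC-subgroup and at one more element;
* `two_of_st_col`, `two_of_st_ti2` : together with a character of small degree with three zeros;
* `autNC_three` : two elements of the same order, one commuting with an involution, the other one not, and an element
  of a different order.
-/

set_option autoImplicit false
set_option linter.unusedSectionVars false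

open scoped ComplexConjugate

namespace Cfsg.Agent.H686.TZ

open Cfsg Cfsg.Agent.Characters.Core Cfsg.Agent.H504.Zeros Cfsg.Agent.H504.ZeroTI
open Cfsg.Agent.H504.TwoZ

universe u v

section Tools

variable {G : Type u} [Group G]

/-- a character vanishing on `A#` has degree divisible by `|A|` -/
theorem card_dvd_of_compl [Finite G] {A : Subgroup G} {χ : IrrCharacter G}
    (h : χ ∈ ((NV A)ᶜ : Set (IrrCharacter G))) : Nat.card A ∣ charDegree (χ : G → ℂ) := by
  classical
  have := Fintype.ofFinite A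
  have := finite_irr (G := A)
  have := Fintype.ofFinite (IrrCharacter A)
  obtain ⟨c, -, h2, -⟩ := exists_mult (A := A) (isIrr_isCharacter χ.2)
  have h3 := h2 (one A)
  rw [Finset.sum_eq_single (1 : A)] at h3
  · rw [one_apply, map_one, mul_one, OneMemClass.coe_one, ← charDegree_cast_irr] at h3
    exact ⟨c (one A), by exact_mod_cast h3.symm⟩
  · intro a _ ha
    rw [apply_eq_zero_of_compl h a.2 (fun h => ha (Subtype.ext h)), zero_mul]
  · intro h'
    exact absurd (Finset.mem_univ _) h'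

/-- one character vanishing on the CC-subgroup and at `x` -/
theorem exists_of_ti_col [Finite G] {A : Subgroup G} (hA : CC A) {e m k f : ℕ} (he : eIdx A = e)
    (hm : 2 ≤ m) (hem : Nat.card A = e * m + 1) (x : G)
    (hx : ∀ a ∈ A, a ≠ 1 → ¬ IsConj x a) (hf : nv x ≤ f) (hk : k ≤ Nat.card (ConjClasses G))
    (h : e + m + f ≤ k + 1) : ∃ χ : IrrCharacter G, χ ∈ ((NV A)ᶜ : Set (IrrCharacter G)) ∧ (χ : G → ℂ) x = 0 := by
  classical
  have := finite_irr (G := G)
  have := Fintype.ofFinite (IrrCharacter G)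
  have := Fintype.ofFinite G
  obtain ⟨s, hs, hsm, hsA⟩ := exists_reps hA (he ▸ hem)
  have h1 := le_ncard_compl hA he (by omega) hem hk
  have h3 : ({χ : IrrCharacter G | (χ : G → ℂ) x ≠ 0}).ncard ≤ f := hf
  -- two characters in `NV A` do not vanish at `x`
  obtain ⟨a, haA, ha1⟩ : ∃ a ∈ A, a ≠ 1 := by
    obtain ⟨a, ha⟩ := Finset.card_pos.1 (show 0 < s.card by omega)
    exact ⟨a, (hsA a ha).1, (hsA a ha).2⟩
  set χ₀ : IrrCharacter G := ⟨1, isIrr_one⟩ with hχ₀
  have horth : ∑ χ : IrrCharacter G, (χ : G → ℂ) x * conj ((χ : G → ℂ) a) = 0 := by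
    have h4 := Cfsg.Agent.S0145.sum_irr_mul_conj x a
    rw [if_neg (hx a haA ha1)] at h4
    exact h4
  obtain ⟨χ₁, hne, hx1, hA1⟩ : ∃ χ₁ : IrrCharacter G, χ₁ ≠ χ₀ ∧ (χ₁ : G → ℂ) x ≠ 0 ∧ χ₁ ∈ NV A := by
    by_contra hcon
    push Not at hcon
    rw [Finset.sum_eq_single χ₀] at horth
    · rw [hχ₀] at horth
      simp at horth
    · intro χ _ hχ
      by_cases h5 : (χ : G → ℂ) x = 0
      · rw [h5, zero_mul]
      · have h6 := hcon χ hχ h5
        rw [apply_eq_zero_of_compl h6 haA ha1, map_zero, mul_zero]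
    · intro h'
      exact absurd (Finset.mem_univ _) h'
  have h0A : χ₀ ∈ NV A := by
    by_contra h5
    have h6 := apply_eq_zero_of_compl h5 haA ha1
    exact one_ne_zero h6
  have h4 : ({χ : IrrCharacter G | (χ : G → ℂ) x ≠ 0} ∩ (NV A)ᶜ).ncard + 2 ≤ f := by
    have h5 : ({χ : IrrCharacter G | (χ : G → ℂ) x ≠ 0} ∩ (NV A)ᶜ) ∪ {χ₀, χ₁} ⊆
        {χ : IrrCharacter G | (χ : G → ℂ) x ≠ 0} := by
      rintro χ (h6 | h6)
      · exact h6.1
      · rcases h6 with rfl | h6
        · exact one_ne_zero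
        · rw [Set.mem_singleton_iff] at h6
          rw [h6]
          exact hx1
    have h6 := Set.ncard_le_ncard h5 (Set.toFinite _)
    rw [Set.ncard_union_eq, Set.ncard_pair hne.symm] at h6
    · omega
    · rw [Set.disjoint_left]
      rintro χ h7 h8
      rcases h8 with rfl | h8
      · exact h7.2 h0A
      · rw [Set.mem_singleton_iff] at h8
        rw [h8] at h7
        exact h7.2 hA1
  have h2 : 0 < (((NV A)ᶜ : Set (IrrCharacter G)) \ {χ | (χ : G → ℂ) x ≠ 0}).ncard := by
    have h5 : ((NV A)ᶜ : Set (IrrCharacter G)) \ {χ | (χ : G → ℂ) x ≠ 0} =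
        ((NV A)ᶜ : Set (IrrCharacter G)) \ ({χ : IrrCharacter G | (χ : G → ℂ) x ≠ 0} ∩ (NV A)ᶜ) := by
      ext χ
      simp only [Set.mem_sdiff, Set.mem_compl_iff, Set.mem_inter_iff, not_and]
      tauto
    rw [h5]
    have h6 := Set.le_ncard_sdiff ({χ : IrrCharacter G | (χ : G → ℂ) x ≠ 0} ∩ (NV A)ᶜ) ((NV A)ᶜ) (Set.toFinite _)
    omega
  rw [Set.ncard_pos (Set.toFinite _)] at h2
  obtain ⟨χ, hχ1, hχ2⟩ := h2
  exact ⟨χ, hχ1, not_not.1 hχ2⟩

/-- `θ` has three zeros and degree not divisible by `|A|`, another character vanishes on `A#` and at `x` -/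
theorem two_of_st_col [Finite G] {A : Subgroup G} (hA : CC A) {e m k f : ℕ} (he : eIdx A = e)
    (hm : 2 ≤ m) (hem : Nat.card A = e * m + 1) (x : G)
    (hx : ∀ a ∈ A, a ≠ 1 → ¬ IsConj x a) (hf : nv x ≤ f) (hk : k ≤ Nat.card (ConjClasses G))
    (h : e + m + f ≤ k + 1) {θ : IrrCharacter G} (hθ : ¬ Nat.card A ∣ charDegree (θ : G → ℂ))
    (t : Finset G) (ht : NonConj t) (hθt : ∀ g ∈ t, (θ : G → ℂ) g = 0) (ht3 : 3 ≤ t.card) : Two G := by
  classical
  obtain ⟨χ, hχ1, hχ2⟩ := exists_of_ti_col hA he hm hem x hx hf hk h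
  obtain ⟨s, hs, hsm, hsA⟩ := exists_reps hA (he ▸ hem)
  have hxs : x ∉ s := fun h => hx x (hsA x h).1 (hsA x h).2 (IsConj.refl x)
  have hns : NonConj (insert x s) := by
    intro g hg h hh hc
    rcases Finset.mem_insert.1 hg with h1 | hg' <;> rcases Finset.mem_insert.1 hh with h2 | hh'
    · rw [h1, h2]
    · rw [h1] at hc
      exact absurd hc (hx h (hsA h hh').1 (hsA h hh').2)
    · rw [h2] at hc
      exact absurd hc.symm (hx g (hsA g hg').1 (hsA g hg').2)
    · exact hs g hg' h hh' hc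
  refine two_of_zeros (χ := θ) (ψ := χ) ?_ t (insert x s) ht hns hθt ?_ ht3 ?_
  · rintro rfl
    exact hθ (card_dvd_of_compl hχ1)
  · intro g hg
    rcases Finset.mem_insert.1 hg with rfl | hg
    · exact hχ2
    · exact apply_eq_zero_of_compl hχ1 (hsA g hg).1 (hsA g hg).2
  · rw [Finset.card_insert_of_notMem hxs]
    omega

/-- `θ` has three zeros and degree not divisible by `|A|`, another character vanishes on `A#` and `B#` -/
theorem two_of_st_ti2 [Finite G] {A B : Subgroup G} (hA : CC A) (hB : CC B)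
    (hcop : (Nat.card A).Coprime (Nat.card B)) {e m e' m' k : ℕ} (he : eIdx A = e)
    (hm : 2 ≤ m) (hem : Nat.card A = e * m + 1) (he' : eIdx B = e') (hm' : 2 ≤ m')
    (hem' : Nat.card B = e' * m' + 1) (hk : k ≤ Nat.card (ConjClasses G))
    (h : e + m + e' + m' < k) {θ : IrrCharacter G} (hθ : ¬ Nat.card A ∣ charDegree (θ : G → ℂ))
    (t : Finset G) (ht : NonConj t) (hθt : ∀ g ∈ t, (θ : G → ℂ) g = 0) (ht3 : 3 ≤ t.card) : Two G := by
  classical
  have := finite_irr (G := G)
  have := Fintype.ofFinite (IrrCharacter G)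
  obtain ⟨s, hs, hsm, hsA⟩ := exists_reps hA (he ▸ hem)
  obtain ⟨s', hs', hsm', hsB⟩ := exists_reps hB (he' ▸ hem')
  have h1 := le_ncard_compl hA he (by omega) hem hk
  have h2 : (NV B).ncard ≤ e' + m' := by
    have := hB.ncard_NV_le hm' (by rw [he']; exact hem')
    rwa [he'] at this
  have h3 : 0 < (((NV A)ᶜ : Set (IrrCharacter G)) \ NV B).ncard := by
    have h6 := Set.le_ncard_sdiff (NV B) ((NV A)ᶜ : Set (IrrCharacter G)) (Set.toFinite _)
    omega
  rw [Set.ncard_pos (Set.toFinite _)] at h3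
  obtain ⟨χ, hχ1, hχ2⟩ := h3
  have hne : ∀ g ∈ s, ∀ h ∈ s', ¬ IsConj g h := by
    intro g hg h hh hc
    have h1 : orderOf g = orderOf h := by
      obtain ⟨c, rfl⟩ := isConj_iff.1 hc
      exact ((MulAut.conj c).orderOf_eq g).symm
    have h2 : orderOf g ∣ Nat.card A := by
      have := orderOf_dvd_natCard (⟨g, (hsA g hg).1⟩ : A)
      rwa [← Subgroup.orderOf_coe] at this
    have h3 : orderOf h ∣ Nat.card B := by
      have := orderOf_dvd_natCard (⟨h, (hsB h hh).1⟩ : B)
      rwa [← Subgroup.orderOf_coe] at this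
    have h4 := Nat.dvd_gcd h2 (h1 ▸ h3)
    rw [hcop] at h4
    exact (hsA g hg).2 (orderOf_eq_one_iff.1 (Nat.dvd_one.1 h4))
  have hns : NonConj (s ∪ s') := by
    intro g hg h hh hc
    rcases Finset.mem_union.1 hg with hg | hg <;> rcases Finset.mem_union.1 hh with hh | hh
    · exact hs g hg h hh hc
    · exact absurd hc (hne g hg h hh)
    · exact absurd hc.symm (hne h hh g hg)
    · exact hs' g hg h hh hc
  have hdis : Disjoint s s' := Finset.disjoint_left.2 fun g hg hg' => hne g hg g hg' (IsConj.refl g)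
  refine two_of_zeros (χ := θ) (ψ := χ) ?_ t (s ∪ s') ht hns hθt ?_ ht3 ?_
  · rintro rfl
    exact hθ (card_dvd_of_compl hχ1)
  · intro g hg
    rcases Finset.mem_union.1 hg with hg | hg
    · exact apply_eq_zero_of_compl hχ1 (hsA g hg).1 (hsA g hg).2
    · exact apply_eq_zero_of_compl hχ2 (hsB g hg).1 (hsB g hg).2
  · rw [Finset.card_union_of_disjoint hdis]
    omega

/-- a `CC`-subgroup and `e + 2` classes outside -/
theorem two_of_ti_orders [Finite G] {A : Subgroup G} (hA : CC A) {e m : ℕ} (he : eIdx A = e)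
    (hm : 3 ≤ m) (hem : Nat.card A = e * m + 1) (s : Finset ℕ) (hs : ∀ n ∈ s, ∃ g : G, orderOf g = n)
    (hsa : ∀ n ∈ s, n = 1 ∨ ¬ n ∣ Nat.card A) (h : e + 2 ≤ s.card) : Two G := by
  obtain ⟨t, ht, htc, hto⟩ := exists_of_orders (G := G) s hs
  have h1 := m_add_card_le hA (he ▸ hem) t ht ?_
  · exact two_of_ti hA he hm hem h1 (by omega)
  · intro g hg a ha ha1 hc
    have h1 : orderOf g = orderOf a := by
      obtain ⟨c, rfl⟩ := isConj_iff.1 hc
      exact ((MulAut.conj c).orderOf_eq g).symm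
    have h2 : orderOf a ∣ Nat.card A := by
      have := orderOf_dvd_natCard (⟨a, ha⟩ : A)
      rwa [← Subgroup.orderOf_coe] at this
    rcases hsa _ (hto g hg) with h3 | h3
    · rw [h1, orderOf_eq_one_iff] at h3
      exact ha1 h3
    · rw [h1] at h3
      exact h3 h2

/-- two elements of the same order, one commuting with an involution, the other one not, and a third one -/
theorem autNC_three {S : Type v} [Group S] [DecidableEq S] {t u w y₀ : S} {a b : ℕ} (ht : orderOf t = a)
    (hu : orderOf u = a) (hw : orderOf w = b) (hab : b ≠ a) (hy : orderOf y₀ = 2) (hty : Commute t y₀)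
    (huy : ∀ y : S, orderOf y = 2 → ¬ Commute u y) :
    AutNC ({t, u, w} : Finset S) ∧ ({t, u, w} : Finset S).card = 3 := by
  have htu : ∀ φ : MulAut S, φ t ≠ u := by
    intro φ h
    refine huy (φ y₀) (by rw [MulEquiv.orderOf_eq, hy]) ?_
    rw [← h]
    exact hty.map φ
  have hut : ∀ φ : MulAut S, φ u ≠ t := by
    intro φ h
    refine htu φ⁻¹ ?_
    rw [← h]
    exact φ.symm_apply_apply u
  constructor
  · intro g hg h hh φ hφ
    have ho : orderOf g = orderOf h := by rw [← hφ, MulEquiv.orderOf_eq]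
    simp only [Finset.mem_insert, Finset.mem_singleton] at hg hh
    rcases hg with rfl | rfl | rfl <;> rcases hh with rfl | rfl | rfl
    · rfl
    · exact absurd hφ (htu φ)
    · exact absurd (by rw [← hw, ← ho, ht]) hab
    · exact absurd hφ (hut φ)
    · rfl
    · exact absurd (by rw [← hw, ← ho, hu]) hab
    · exact absurd (by rw [← hw, ho, ht]) hab
    · exact absurd (by rw [← hw, ho, hu]) hab
    · rfl
  · have h1 : t ≠ u := fun h => htu 1 h
    have h2 : t ≠ w := by
      rintro rfl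
      exact hab (by rw [← hw, ht])
    have h3 : u ≠ w := by
      rintro rfl
      exact hab (by rw [← hw, hu])
    rw [Finset.card_insert_of_notMem, Finset.card_pair h3]
    simp only [Finset.mem_insert, Finset.mem_singleton, not_or]
    exact ⟨h1, h2⟩

end Tools

end Cfsg.Agent.H686.TZ
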